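import Mathlib
import Cfsg.Agent.Lib.NormalCover.Basic
import Cfsg.Agent.Lib.SpecGL.DivisorTools

/-!
`PSL_2`, `PSL_3` and `PSL_4` are covered by the conjugates of two proper subgroups: the stabiliser of a point and
the centraliser of a field extension.
-/

set_option autoImplicit false

namespace CfsgLib.NormalCover

open Polynomial Matrix CfsgLib.SpecGL

universe u

variable {F : Type u} [Field F] {n : ℕ}

theorem isUnit_of_aeval_eq_zero {f : F[X]} (h0 : f.coeff 0 ≠ 0) {A : Matrix (Fin n) (Fin n) F}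
    (h : aeval A f = 0) : IsUnit A := by
  refine IsUnit.of_mul_eq_one ((-(f.coeff 0)⁻¹) • aeval A f.divX) ?_
  have h1 := congrArg (aeval A) (X_mul_divX_add f)
  rw [map_add, map_mul, aeval_X, aeval_C, h, Algebra.algebraMap_eq_smul_one] at h1
  rw [Matrix.mul_smul, eq_neg_of_add_eq_zero_left h1, neg_smul, smul_neg, neg_neg, smul_smul,
    inv_mul_cancel₀ h0, one_smul]

variable [Fintype F]

omit [Fintype F] in
/-- All elementary divisors are `(f, 1)` when the irreducible `f` annihilates. -/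
theorem divisors_of_annihilated {f : F[X]} (hf : Irreducible f) (hfm : f.Monic) {A : Matrix (Fin n) (Fin n) F}
    {s : Multiset (F[X] × ℕ)} (hs : GoodDivisors s) (h : HasDivisors A s) (hA : aeval A f = 0) :
    ∀ x ∈ s, x = (f, 1) := by
  intro x hx
  obtain ⟨hxm, hxi, -, hxe⟩ := hs x hx
  obtain ⟨ι, _, d, hd, Ψ, hΨ⟩ := exists_intertwine h
  obtain ⟨i, -, hi⟩ := Multiset.mem_map.1 (hd.symm ▸ hx)
  classical
  have hf' : ∀ y : ((i : ι) → F[X] ⧸ Ideal.span {(d i).1 ^ (d i).2}), f • y = 0 := by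
    intro y
    obtain ⟨v, rfl⟩ := Ψ.surjective y
    have key : ∀ P : F[X], ∀ v, Ψ (aeval A P *ᵥ v) = P • Ψ v := by
      intro P
      induction P using Polynomial.induction_on with
      | C a =>
        intro v
        rw [aeval_C, Algebra.algebraMap_eq_smul_one, Matrix.smul_mulVec, Matrix.one_mulVec, map_smul,
          ← Polynomial.algebraMap_eq]
        exact (algebraMap_smul F[X] a (Ψ v)).symm
      | add P Q hP hQ =>
        intro v
        rw [map_add, Matrix.add_mulVec, map_add, hP, hQ]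
        exact (add_smul P Q (Ψ v)).symm
      | monomial k a ih =>
        intro v
        rw [pow_succ, ← mul_assoc, map_mul, aeval_X, ← Matrix.mulVec_mulVec, ih, hΨ, ← mul_smul]
    rw [← key, hA, Matrix.zero_mulVec, map_zero]
  have h1 := congrFun (hf' (Pi.single i (Ideal.Quotient.mk _ 1))) i
  rw [Pi.smul_apply, Pi.single_eq_same, Pi.zero_apply] at h1
  have hdvd : x.1 ^ x.2 ∣ f := by
    rw [← hi]
    change Ideal.Quotient.mk _ (f * 1) = 0 at h1
    rwa [mul_one, Ideal.Quotient.eq_zero_iff_dvd] at h1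
  have hxf : x.1 = f := eq_of_monic_of_associated hxm hfm
    (hxi.associated_of_dvd hf ((dvd_pow_self _ (by omega)).trans hdvd))
  refine Prod.ext hxf ?_
  rw [hxf] at hdvd
  have := natDegree_le_of_dvd hdvd hf.ne_zero
  rw [natDegree_pow] at this
  have := hf.natDegree_pos
  show x.2 = 1
  nlinarith

/-- Two matrices killed by one irreducible polynomial are conjugate under `SL`. -/
theorem exists_sl_conj {f : F[X]} (hf : Irreducible f) (hfm : f.Monic) (h0 : f.coeff 0 ≠ 0) (hn : 1 ≤ n)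
    {A B : Matrix (Fin n) (Fin n) F} (hA : aeval A f = 0) (hB : aeval B f = 0) :
    ∃ T : SpecialLinearGroup (Fin n) F, (T : Matrix (Fin n) (Fin n) F) * A = B * T := by
  classical
  obtain ⟨s, hs, hsg, hsum⟩ := exists_divisors A (isUnit_of_aeval_eq_zero h0 hA)
  obtain ⟨t, ht, htg, htsum⟩ := exists_divisors B (isUnit_of_aeval_eq_zero h0 hB)
  have hrep : ∀ {C : Matrix (Fin n) (Fin n) F} {r : Multiset (F[X] × ℕ)}, HasDivisors C r → GoodDivisors r →
      (r.map fun x => x.2 * x.1.natDegree).sum = n → aeval C f = 0 →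
      r = Multiset.replicate r.card (f, 1) ∧ r.card * f.natDegree = n := by
    intro C r hr hrg hrsum hC
    have hall := Multiset.eq_replicate_card.2 (divisors_of_annihilated hf hfm hrg hr hC)
    refine ⟨hall, ?_⟩
    rw [hall, Multiset.map_replicate, Multiset.sum_replicate] at hrsum
    simpa using hrsum
  obtain ⟨hs1, hs2⟩ := hrep hs hsg hsum hA
  obtain ⟨ht1, ht2⟩ := hrep ht htg htsum hB
  have hcard : s.card = t.card := Nat.eq_of_mul_eq_mul_right hf.natDegree_pos (hs2.trans ht2.symm)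
  have hst : s = t := by rw [hs1, ht1, hcard]
  obtain ⟨P, hP⟩ := isConj_of_divisors hs (show HasDivisors B s by rw [hst]; exact ht)
  have hmem : (f, 1) ∈ t := by
    rw [ht1, Multiset.mem_replicate]
    refine ⟨fun hc => ?_, rfl⟩
    rw [hc, zero_mul] at ht2
    omega
  obtain ⟨Q, hQ, hQd⟩ := ht.exists_commute_det htg hmem ((P : Matrix (Fin n) (Fin n) F).det)⁻¹
  have hPd : (P : Matrix (Fin n) (Fin n) F).det ≠ 0 :=
    ((Matrix.isUnit_iff_isUnit_det _).1 P.isUnit).ne_zero
  refine ⟨⟨Q * (P : Matrix (Fin n) (Fin n) F), ?_⟩, ?_⟩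
  · rw [Matrix.det_mul, hQd, pow_one, inv_mul_cancel₀ hPd]
  · show Q * (P : Matrix (Fin n) (Fin n) F) * A = B * (Q * (P : Matrix (Fin n) (Fin n) F))
    rw [mul_assoc, hP, ← mul_assoc, hQ, mul_assoc]

omit [Fintype F] in
/-- A matrix killed by `f`, whenever the degree of `f` divides the size. -/
theorem exists_annihilated {f : F[X]} (hfm : f.Monic) (hdvd : f.natDegree ∣ n) :
    ∃ θ : Matrix (Fin n) (Fin n) F, aeval θ f = 0 := by
  obtain ⟨k, hk⟩ := hdvd
  let pb := AdjoinRoot.powerBasis hfm.ne_zero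
  have hdim : pb.dim = f.natDegree := rfl
  let b := (Pi.basis fun _ : Fin k => pb.basis).reindex
    (Fintype.equivFinOfCardEq (show Fintype.card ((_ : Fin k) × Fin pb.dim) = n by
      simp [hk, hdim, mul_comm]))
  let φ : AdjoinRoot f →ₐ[F] Matrix (Fin n) (Fin n) F :=
    (LinearMap.toMatrixAlgEquiv b).toAlgHom.comp (Algebra.lsmul F F (Fin k → AdjoinRoot f))
  refine ⟨φ (AdjoinRoot.root f), ?_⟩
  rw [aeval_algHom_apply, AdjoinRoot.aeval_eq, AdjoinRoot.mk_self, map_zero]

omit [Fintype F] in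
/-- A special linear matrix sending a multiple of a given vector to a coordinate vector. -/
theorem exists_sl_move {k : ℕ} {v : Fin (k + 1) → F} (hv : v ≠ 0) :
    ∃ (S : SpecialLinearGroup (Fin (k + 1)) F) (a : F),
      a ≠ 0 ∧ (S : Matrix (Fin (k + 1)) (Fin (k + 1)) F) *ᵥ Pi.single 0 1 = a • v := by
  obtain ⟨j, hj⟩ := Function.ne_iff.1 hv
  let σ : Equiv.Perm (Fin (k + 1)) := Equiv.swap 0 j
  have hs0 : ((Equiv.Perm.sign σ : ℤ) : F) * ((Equiv.Perm.sign σ : ℤ) : F) = 1 := by
    rw [← Int.cast_mul, ← Units.val_mul, Int.units_mul_self, Units.val_one, Int.cast_one]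
  have hs1 : ((Equiv.Perm.sign σ : ℤ) : F) ≠ 0 := fun h => by simp [h] at hs0
  set a : F := ((Equiv.Perm.sign σ : ℤ) : F) * (v j)⁻¹ with ha
  let M : Matrix (Fin (k + 1)) (Fin (k + 1)) F :=
    ((1 : Matrix (Fin (k + 1)) (Fin (k + 1)) F).updateCol j (a • v)).submatrix id σ
  have hdet : ((1 : Matrix (Fin (k + 1)) (Fin (k + 1)) F).updateCol j (a • v)).det = a * v j := by
    rw [← Matrix.cramer_apply, Matrix.cramer_one]
    simp
  have hMd : M.det = 1 := by
    rw [Matrix.det_permute', hdet, ha, mul_assoc _ (v j)⁻¹, inv_mul_cancel₀ hj, mul_one]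
    exact hs0
  refine ⟨⟨M, hMd⟩, a, mul_ne_zero hs1 (inv_ne_zero hj), funext fun i => ?_⟩
  rw [Matrix.mulVec_single_one]
  show M i 0 = _
  simp [M, σ, Equiv.swap_apply_left]

omit [Fintype F] in
theorem inv_mul_val {k : ℕ} (a : SpecialLinearGroup (Fin k) F) : a⁻¹.1 * a.1 = 1 :=
  congrArg Subtype.val (inv_mul_cancel a)

omit [Fintype F] in
theorem mul_inv_val {k : ℕ} (a : SpecialLinearGroup (Fin k) F) : a.1 * a⁻¹.1 = 1 :=
  congrArg Subtype.val (mul_inv_cancel a)

/-- The stabiliser of the first point. -/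
def pointStab (k : ℕ) (F : Type u) [Field F] : Subgroup (SpecialLinearGroup (Fin (k + 1)) F) where
  carrier := {g | ∃ c : F, g.1 *ᵥ Pi.single 0 1 = c • Pi.single 0 1}
  one_mem' := ⟨1, (Matrix.one_mulVec _).trans (one_smul F _).symm⟩
  mul_mem' := by
    rintro a b ⟨c, hc⟩ ⟨d, hd⟩
    refine ⟨d * c, ?_⟩
    show (a.1 * b.1) *ᵥ _ = _
    rw [← Matrix.mulVec_mulVec, hd, Matrix.mulVec_smul, hc, smul_smul]
  inv_mem' := by
    rintro a ⟨c, hc⟩
    have h1 : a⁻¹.1 *ᵥ (a.1 *ᵥ Pi.single 0 1) = Pi.single 0 1 := by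
      rw [Matrix.mulVec_mulVec, inv_mul_val, Matrix.one_mulVec]
    rw [hc, Matrix.mulVec_smul] at h1
    have hc0 : c ≠ 0 := fun h => by
      rw [h, zero_smul] at h1
      simpa using congrFun h1 0
    exact ⟨c⁻¹, by conv_rhs => rw [← h1, smul_smul, inv_mul_cancel₀ hc0, one_smul]⟩

/-- The centraliser of a matrix. -/
def matCentralizer (θ : Matrix (Fin n) (Fin n) F) : Subgroup (SpecialLinearGroup (Fin n) F) where
  carrier := {g | g.1 * θ = θ * g.1}
  one_mem' := (Matrix.one_mul θ).trans (Matrix.mul_one θ).symm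
  mul_mem' {a b} ha hb := by
    show a.1 * b.1 * θ = θ * (a.1 * b.1)
    rw [mul_assoc, hb, ← mul_assoc, ha, mul_assoc]
  inv_mem' {a} ha := by
    show a⁻¹.1 * θ = θ * a⁻¹.1
    calc a⁻¹.1 * θ = a⁻¹.1 * (θ * a.1) * a⁻¹.1 := by rw [mul_assoc, mul_assoc θ, mul_inv_val, mul_one]
      _ = _ := by rw [← ha, ← mul_assoc, inv_mul_val, one_mul]

omit [Fintype F] in
theorem center_le_both {k : ℕ} (θ : Matrix (Fin (k + 1)) (Fin (k + 1)) F) :
    Subgroup.center (SpecialLinearGroup (Fin (k + 1)) F) ≤ pointStab k F ⊓ matCentralizer θ := by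
  intro z hz
  obtain ⟨r, -, hr⟩ := Matrix.SpecialLinearGroup.mem_center_iff.1 hz
  refine ⟨⟨r, ?_⟩, ?_⟩
  · show z.1 *ᵥ _ = _
    rw [← hr, Matrix.scalar_apply, ← Matrix.smul_one_eq_diagonal, Matrix.smul_mulVec, Matrix.one_mulVec]
  · show z.1 * θ = θ * z.1
    rw [← hr, Matrix.scalar_apply, ← Matrix.smul_one_eq_diagonal, Matrix.smul_mul, Matrix.mul_smul,
      Matrix.one_mul, Matrix.mul_one]

/-- The covering, given roots modulo the polynomials without linear factor. -/
theorem psl_covered {k d : ℕ} (hk : 1 ≤ k) (hd : 2 ≤ d) (hdn : d ∣ k + 1)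
    (hcase : ∀ h : F[X], h.Monic → h.natDegree = k + 1 → (∀ c : F, h.eval c ≠ 0) →
      ∀ f : F[X], Irreducible f → f.Monic → f.natDegree = d → ∃ P : F[X], h ∣ f.comp P) :
    TwoCovered (ProjectiveSpecialLinearGroup (Fin (k + 1)) F) := by
  classical
  obtain ⟨f, hfm, hf, hfd⟩ := exists_irreducible F (show 0 < d by omega)
  have h0 : f.coeff 0 ≠ 0 := coeff_zero_ne_zero hf hfm (by omega)
  obtain ⟨θ, hθ⟩ := exists_annihilated (n := k + 1) hfm (by rw [hfd]; exact hdn)
  refine twoCovered_quotient (pointStab k F) (matCentralizer θ)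
    (le_trans (center_le_both θ) inf_le_left) (le_trans (center_le_both θ) inf_le_right) ?_ ?_ fun g => ?_
  · intro htop
    let i : Fin (k + 1) := ⟨1, by omega⟩
    have hi : i ≠ 0 := fun h => by simpa [i] using congrArg Fin.val h
    let t : Matrix.SpecialLinearGroup (Fin (k + 1)) F :=
      ⟨transvection i 0 1, det_transvection_of_ne i 0 hi 1⟩
    obtain ⟨c, hc⟩ : t ∈ pointStab k F := htop.symm ▸ Subgroup.mem_top t
    have := congrFun hc i
    simp [t, transvection, hi] at this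
  · intro htop
    obtain ⟨c, hc⟩ := Matrix.mem_range_scalar_of_commute_transvectionStruct (M := θ) fun t => by
      let T : Matrix.SpecialLinearGroup (Fin (k + 1)) F := ⟨t.toMatrix, t.det⟩
      have hT : T ∈ matCentralizer θ := htop.symm ▸ Subgroup.mem_top T
      exact hT
    rw [← hc, show Matrix.scalar (Fin (k + 1)) c = algebraMap F (Matrix (Fin (k + 1)) (Fin (k + 1)) F) c from rfl,
      aeval_algebraMap_apply_eq_algebraMap_eval] at hθ
    have hroot : f.eval c = 0 :=
      (map_eq_zero_iff _ (algebraMap F (Matrix (Fin (k + 1)) (Fin (k + 1)) F)).injective).1 hθ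
    have := degree_eq_one_of_irreducible_of_root hf hroot
    have : f.natDegree = 1 := natDegree_eq_of_degree_eq_some this
    omega
  · set G : Matrix (Fin (k + 1)) (Fin (k + 1)) F := (g : Matrix (Fin (k + 1)) (Fin (k + 1)) F) with hG
    by_cases hroot : ∃ c, G.charpoly.eval c = 0
    · obtain ⟨c, hc⟩ := hroot
      rw [Matrix.eval_charpoly] at hc
      obtain ⟨v, hv0, hv⟩ := Matrix.exists_mulVec_eq_zero_iff.2 hc
      rw [Matrix.sub_mulVec, sub_eq_zero, Matrix.scalar_apply, ← Matrix.smul_one_eq_diagonal,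
        Matrix.smul_mulVec, Matrix.one_mulVec] at hv
      obtain ⟨S, a, ha, hS⟩ := exists_sl_move hv0
      refine ⟨S⁻¹, Or.inl ⟨c, ?_⟩⟩
      have hTv : S⁻¹.1 *ᵥ (a • v) = Pi.single 0 1 := by
        rw [← hS, Matrix.mulVec_mulVec, inv_mul_val, Matrix.one_mulVec]
      show (S⁻¹.1 * G * (S⁻¹)⁻¹.1) *ᵥ _ = _
      rw [inv_inv, ← Matrix.mulVec_mulVec, hS, ← Matrix.mulVec_mulVec, Matrix.mulVec_smul, ← hv, smul_comm,
        Matrix.mulVec_smul, hTv]
    · push Not at hroot
      obtain ⟨P, hP⟩ := hcase G.charpoly G.charpoly_monic (by rw [Matrix.charpoly_natDegree_eq_dim, Fintype.card_fin])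
        hroot f hf hfm hfd
      have hθ' : aeval (aeval G P) f = 0 := by
        rw [← aeval_comp]
        exact aeval_eq_zero_of_dvd_aeval_eq_zero hP (Matrix.aeval_self_charpoly G)
      obtain ⟨T, hT⟩ := exists_sl_conj hf hfm h0 (by omega) hθ' hθ
      refine ⟨T, Or.inr ?_⟩
      show T.1 * G * T⁻¹.1 * θ = θ * (T.1 * G * T⁻¹.1)
      have e : θ = T.1 * aeval G P * T⁻¹.1 := by
        rw [hT, mul_assoc, mul_inv_val, mul_one]
      have hcomm : G * aeval G P = aeval G P * G := by
        have h := ((Commute.all (X : F[X]) P).map (aeval G)).eq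
        rwa [aeval_X] at h
      rw [e]
      simp only [mul_assoc]
      rw [← mul_assoc T⁻¹.1 T.1, inv_mul_val, one_mul, ← mul_assoc G, hcomm]
      simp only [mul_assoc]
      rw [← mul_assoc T⁻¹.1 T.1, inv_mul_val, one_mul]

omit [Fintype F] in
theorem irreducible_of_no_root {h : F[X]} (hm : h.Monic) (h2 : 2 ≤ h.natDegree) (h3 : h.natDegree ≤ 3)
    (hr : ∀ c : F, h.eval c ≠ 0) : Irreducible h := by
  rw [hm.irreducible_iff_roots_eq_zero_of_degree_le_three h2 h3]
  exact Multiset.eq_zero_of_forall_notMem fun c hc => hr c (isRoot_of_mem_roots hc)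

theorem psl_two : TwoCovered (ProjectiveSpecialLinearGroup (Fin 2) F) :=
  psl_covered (k := 1) le_rfl le_rfl dvd_rfl fun h hm hd hr f hf hfm hfd =>
    exists_dvd_comp hf hfm (irreducible_of_no_root hm (by omega) (by omega) hr) hm (by rw [hfd, hd])

theorem psl_three : TwoCovered (ProjectiveSpecialLinearGroup (Fin 3) F) :=
  psl_covered (k := 2) (d := 3) (by omega) (by omega) dvd_rfl fun h hm hd hr f hf hfm hfd =>
    exists_dvd_comp hf hfm (irreducible_of_no_root hm (by omega) (by omega) hr) hm (by rw [hfd, hd])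

theorem psl_four : TwoCovered (ProjectiveSpecialLinearGroup (Fin 4) F) :=
  psl_covered (k := 3) (d := 2) (by omega) le_rfl (by norm_num) fun h hm hd hr f hf hfm hfd => by
    by_cases hirr : Irreducible h
    · exact exists_dvd_comp hf hfm hirr hm (by rw [hfd, hd]; norm_num)
    rw [hm.irreducible_iff_natDegree] at hirr
    push Not at hirr
    obtain ⟨a, b, ha, hb, hab, ha1, hb1⟩ := hirr (fun h1 => by rw [h1, natDegree_one] at hd; omega)
    have hsum : a.natDegree + b.natDegree = 4 := by rw [← ha.natDegree_mul hb, hab, hd]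
    have hra : ∀ c : F, a.eval c ≠ 0 := fun c hc => hr c (by rw [← hab, eval_mul, hc, zero_mul])
    have hrb : ∀ c : F, b.eval c ≠ 0 := fun c hc => hr c (by rw [← hab, eval_mul, hc, mul_zero])
    have hne1 : ∀ p : F[X], p.Monic → (∀ c : F, p.eval c ≠ 0) → p.natDegree ≠ 1 := fun p hp hpr h1 => by
      refine hpr (-p.coeff 0) ?_
      rw [hp.eq_X_add_C h1]
      simp
    have ha2 := hne1 a ha hra
    have hb2 := hne1 b hb hrb
    have haI := irreducible_of_no_root ha (by omega) (by omega) hra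
    have hbI := irreducible_of_no_root hb (by omega) (by omega) hrb
    by_cases heq : a = b
    · obtain ⟨P, hP⟩ := exists_dvd_comp_pow hf hfm haI ha (by rw [hfd, show a.natDegree = 2 by omega])
      exact ⟨P, by rw [← hab, ← heq]; exact hP⟩
    obtain ⟨Pa, hPa⟩ := exists_dvd_comp hf hfm haI ha (by rw [hfd, show a.natDegree = 2 by omega])
    obtain ⟨Pb, hPb⟩ := exists_dvd_comp hf hfm hbI hb (by rw [hfd, show b.natDegree = 2 by omega])
    have hco : IsCoprime a b := (haI.coprime_iff_not_dvd).2 fun hdv =>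
      heq (eq_of_monic_of_associated ha hb (haI.associated_of_dvd hbI hdv))
    obtain ⟨u, v, huv⟩ := id hco
    refine ⟨Pa * (v * b) + Pb * (u * a), ?_⟩
    have hcong : ∀ {p Q R : F[X]}, p ∣ Q - R → p ∣ f.comp R → p ∣ f.comp Q := fun {p Q R} h1 h2 => by
      have h3 : Q - R ∣ f.comp Q - f.comp R := by
        have := Polynomial.sub_dvd_eval_sub Q R (f.map Polynomial.C)
        rwa [eval_map, eval_map] at this
      exact (dvd_sub_left h2).1 (h1.trans h3)
    rw [← hab]
    exact hco.mul_dvd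
      (hcong ⟨(Pb - Pa) * u, by linear_combination Pa * huv⟩ hPa)
      (hcong ⟨(Pa - Pb) * v, by linear_combination Pb * huv⟩ hPb)

end CfsgLib.NormalCover
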