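import Mathlib
import Cfsg.Prelude.Def_ClassicalGeometry
import Cfsg.Agent.Lib.Unitary.Frames
import Cfsg.Agent.Lib.ClassicalGroups.HermGroup
import Cfsg.Agent.Lib.NormalCover.Basic
import Cfsg.Agent.Lib.SpecUnitary.UClassTools

/-!
Stabilisers of subspaces in `SU_n(q)`: transitivity on anisotropic lines and on totally isotropic subspaces
of one dimension.
-/

set_option autoImplicit false

namespace CfsgLib.NormalCover

open Matrix CfsgLib.UnitaryEmbed CfsgLib.ClassicalGroups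

variable {F : Type*} [Field F] [Fintype F] {q n : ℕ}

/-- The stabiliser of a subspace. -/
def stabSU (W : Submodule F (Fin n → F)) (q : ℕ) : Subgroup (Cfsg.SU n F q) :=
  (Cfsg.stabilizing (Cfsg.slToMat n F) (W : Set (Fin n → F))).subgroupOf (Cfsg.SU n F q)

omit [Fintype F] in
theorem mem_stabSU {W : Submodule F (Fin n → F)} (g : Cfsg.SU n F q) (h : ∀ v ∈ W, g.1.1 *ᵥ v ∈ W) :
    g ∈ stabSU W q := by
  show ∀ v, v ∈ W ↔ g.1.1 *ᵥ v ∈ W
  let L := Matrix.SpecialLinearGroup.toLin' g.1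
  have hL : ∀ v, L v = g.1.1 *ᵥ v := fun v => Matrix.SpecialLinearGroup.toLin'_apply _ v
  have heq : W.map L.toLinearMap = W := Submodule.eq_of_le_of_finrank_eq
    (Submodule.map_le_iff_le_comap.2 fun v hv => show L v ∈ W by rw [hL]; exact h v hv)
    (LinearEquiv.finrank_map_eq L W)
  refine fun v => ⟨h v, fun hv => ?_⟩
  rw [← heq] at hv
  obtain ⟨w, hw, hwv⟩ := hv
  rw [← hL] at hwv
  rwa [← L.injective hwv]

theorem center_le_stabSU (hF : Fintype.card F = q ^ 2) (W : Submodule F (Fin n → F)) :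
    Subgroup.center (Cfsg.SU n F q) ≤ stabSU W q := by
  intro z hz
  refine mem_stabSU z fun v hv => ?_
  rcases isEmpty_or_nonempty (Fin n) with h | ⟨⟨k⟩⟩
  · convert hv using 1
  have hs := center_SU_scalar hF ⟨z, hz⟩
  have he : z.1.1 *ᵥ v = z.1.1 k k • v := by
    funext i
    rw [Matrix.mulVec, dotProduct, Finset.sum_eq_single i (fun j _ hj => by rw [(hs i j).1 hj.symm, zero_mul])
      (fun hi => absurd (Finset.mem_univ i) hi), ← (hs k i).2]
    rfl
  rw [he]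
  exact W.smul_mem _ hv

omit [Fintype F] in
/-- An element preserving the image of `W` is conjugate into the stabiliser of `W`. -/
theorem exists_conj_mem_stabSU {W W' : Submodule F (Fin n → F)}
    (hr : Module.finrank F W' = Module.finrank F W) {x g : Cfsg.SU n F q}
    (hx : ∀ v ∈ W, x.1.1 *ᵥ v ∈ W') (hg : ∀ v ∈ W', g.1.1 *ᵥ v ∈ W') :
    ∃ y : Cfsg.SU n F q, y * g * y⁻¹ ∈ stabSU W q := by
  let L := Matrix.SpecialLinearGroup.toLin' x.1
  have hL : ∀ v, L v = x.1.1 *ᵥ v := fun v => Matrix.SpecialLinearGroup.toLin'_apply _ v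
  have heq : W.map L.toLinearMap = W' := Submodule.eq_of_le_of_finrank_eq
    (Submodule.map_le_iff_le_comap.2 fun v hv => show L v ∈ W' by rw [hL]; exact hx v hv)
    ((LinearEquiv.finrank_map_eq L W).trans hr.symm)
  refine ⟨x⁻¹, mem_stabSU _ fun v hv => ?_⟩
  have h1 := hg _ (hx v hv)
  rw [← heq] at h1
  obtain ⟨w, hw, hwv⟩ := h1
  rw [inv_inv]
  show (x⁻¹.1.1 * g.1.1 * x.1.1) *ᵥ v ∈ W
  rw [← Matrix.mulVec_mulVec, ← Matrix.mulVec_mulVec, ← hwv]
  show x⁻¹.1.1 *ᵥ L w ∈ W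
  rw [hL, Matrix.mulVec_mulVec, show x⁻¹.1.1 * x.1.1 = 1 from
    congrArg (fun a : Cfsg.SU n F q => a.1.1) (inv_mul_cancel x), Matrix.one_mulVec]
  exact hw

/-- `SU` is transitive on non-isotropic lines. -/
theorem exists_SU_to_line (hF : Fintype.card F = q ^ 2) (j : Fin n) {v : Fin n → F}
    (hv : Cfsg.hermForm n F q v v ≠ 0) :
    ∃ (x : Cfsg.SU n F q) (c : F), c ≠ 0 ∧ x.1.1 *ᵥ Pi.single j 1 = c • v := by
  classical
  obtain ⟨τ, hτ, hne, h2⟩ := exists_conj hF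
  have hq : q ≠ 0 := by have := q_gt_one hF; omega
  have hfix : ((Cfsg.hermForm n F q v v)⁻¹) ^ q = (Cfsg.hermForm n F q v v)⁻¹ := by
    rw [inv_pow, ← hτ, ← hermSesq_apply τ hτ, hermSesq_symm τ h2]
  obtain ⟨a, ha⟩ := exists_norm hF _ hfix
  have ha0 : a ≠ 0 := fun h => inv_ne_zero hv (by rw [← ha, h, zero_pow (by omega)])
  have he : Cfsg.hermForm n F q (Pi.single j 1) (Pi.single j 1) = 1 := by
    rw [← hermSesq_apply τ hτ, hermSesq_single, if_pos rfl]
  have hav : Cfsg.hermForm n F q (a • v) (a • v) = 1 := by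
    rw [hermForm_smul_left, hermForm_smul_right, ← mul_assoc, ← pow_succ', ha, inv_mul_cancel₀ hv]
  obtain ⟨g, hg⟩ := exists_GU_map_norm_one hF (Pi.single j 1) (a • v) he hav
  set μ : F := g.1.val.det with hμdef
  have hμ : μ ^ (q + 1) = 1 := gu_det_norm τ hτ g
  have hμ0 : μ ≠ 0 := fun h => by simp [h] at hμ
  let d : Fin n → F := fun i => if i = j then μ⁻¹ else 1
  have hdd : (diagonal d).det = μ⁻¹ := by simp [d, det_diagonal, Finset.prod_ite_eq']
  have hdGU : GeneralLinearGroup.mkOfDetNeZero (diagonal d) (by rw [hdd]; exact inv_ne_zero hμ0) ∈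
      Cfsg.GU n F q := diagonal_mem_GU d (fun i => by
        by_cases h : i = j <;> simp [d, h, inv_pow, hμ]) _ rfl
  let s : SpecialLinearGroup (Fin n) F := ⟨g.1.val * diagonal d, by
    rw [Matrix.det_mul, hdd]; exact mul_inv_cancel₀ hμ0⟩
  refine ⟨⟨s, mem_SU_iff.2 fun u w => ?_⟩, μ⁻¹ * a, mul_ne_zero (inv_ne_zero hμ0) ha0, ?_⟩
  · show Cfsg.hermForm n F q ((g.1.val * diagonal d) *ᵥ u) ((g.1.val * diagonal d) *ᵥ w) = _
    rw [← Matrix.mulVec_mulVec, ← Matrix.mulVec_mulVec, mem_GU_iff.1 g.2]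
    exact mem_GU_iff.1 hdGU u w
  · show (g.1.val * diagonal d) *ᵥ Pi.single j 1 = _
    rw [← Matrix.mulVec_mulVec, Matrix.diagonal_mulVec_single,
      show Pi.single j (d j * 1) = μ⁻¹ • (Pi.single j (1 : F) : Fin n → F) by
        rw [← Pi.single_smul, smul_eq_mul]; simp [d],
      Matrix.mulVec_smul, hg, smul_smul]

/-- `SU` is transitive on totally isotropic subspaces of one dimension. -/
theorem exists_SU_ti_map (hF : Fintype.card F = q ^ 2) [NeZero n] (W W' : Submodule F (Fin n → F))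
    (hr : Module.finrank F W' = Module.finrank F W)
    (hW : ∀ u ∈ W, ∀ v ∈ W, Cfsg.hermForm n F q u v = 0)
    (hW' : ∀ u ∈ W', ∀ v ∈ W', Cfsg.hermForm n F q u v = 0) :
    ∃ x : Cfsg.SU n F q, ∀ v ∈ W, x.1.1 *ᵥ v ∈ W' := by
  obtain ⟨τ, hτ, hne, h2⟩ := exists_conj hF
  have hB := CfsgLib.Unitary.hform_herm (n := n) hF hτ hne h2
  let e := LinearEquiv.ofFinrankEq W W' hr.symm
  obtain ⟨g, hg, hgx⟩ := CfsgLib.Forms.herm_witt_extension (hermSesq n τ) hne h2 (hermSesq_symm τ h2)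
    (hermSesq_separatingLeft τ) W (W'.subtype ∘ₗ e.toLinearMap)
    (W'.injective_subtype.comp e.injective) (fun x x' => by
      rw [hermSesq_apply τ hτ, hermSesq_apply τ hτ]
      exact (hW' _ (e x').2 _ (e x).2).trans (hW _ x'.2 _ x.2).symm)
  set μ := LinearMap.det (g : (Fin n → F) →ₗ[F] (Fin n → F)) with hμd
  have hμ : τ μ * μ = 1 := by
    have h := gu_det_norm τ hτ (toGU g fun u v => by rw [← hermSesq_apply τ hτ, ← hermSesq_apply τ hτ, hg])
    have hdet : LinearMap.det (g : (Fin n → F) →ₗ[F] (Fin n → F)) =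
        ((toGU g fun u v => by rw [← hermSesq_apply τ hτ, ← hermSesq_apply τ hτ, hg] :
          Cfsg.GU n F q) : GL (Fin n) F).val.det := by
      rw [← LinearMap.det_toMatrix']; rfl
    rw [hτ, ← pow_succ, hμd, hdet]; exact h
  have hμ0 : μ ≠ 0 := fun h => by simp [h] at hμ
  have : Nontrivial (Fin n → F) := Function.nontrivial
  obtain ⟨f, hf, hfW, hfd⟩ := CfsgLib.Unitary.exists_det_stab hB W
    (fun u hu v hv => by rw [hermSesq_apply τ hτ]; exact hW v hv u hu) (μ := μ⁻¹)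
    (by rw [map_inv₀, ← mul_inv, hμ, inv_one])
  let M := LinearMap.toMatrix' (g.toLinearMap ∘ₗ f)
  have hM : ∀ v, M *ᵥ v = g (f v) := fun v => LinearMap.toMatrix'_mulVec _ v
  have hMd : M.det = 1 := by
    rw [LinearMap.det_toMatrix', LinearMap.det_comp, hfd]
    exact mul_inv_cancel₀ hμ0
  refine ⟨⟨⟨M, hMd⟩, mem_SU_iff.2 fun u v => ?_⟩, fun v hv => ?_⟩
  · show Cfsg.hermForm n F q (M *ᵥ u) (M *ᵥ v) = _
    rw [hM, hM, ← hermSesq_apply τ hτ, ← hermSesq_apply τ hτ, hg, hf]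
  · show M *ᵥ v ∈ W'
    rw [hM, show g (f v) = (e ⟨f v, hfW v hv⟩ : Fin n → F) from hgx ⟨f v, hfW v hv⟩]
    exact Subtype.coe_prop _

end CfsgLib.NormalCover
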