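import Mathlib
import Cfsg.Agent.Lib.SpecUnitary.UClassTools
import Cfsg.Agent.Lib.UnitaryEmbed.Herm

/-!
Self-conjugate-reciprocal irreducible polynomials have odd degree; the kernel of any other irreducible
polynomial in a unitary matrix is totally isotropic.
-/

set_option autoImplicit false

namespace CfsgLib.NormalCover

open Polynomial Matrix CfsgLib.SpecUnitary

variable {F : Type*} [Field F] [Fintype F] {q n : ℕ} {τ : F →+* F}

/-- The map `x ↦ x^(-q)` moves a root of a fixed polynomial by a power of the Frobenius. -/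
theorem fixed_root_iter (hF : Fintype.card F = q ^ 2) (hτ : ∀ x, τ x = x ^ q) (hτ2 : ∀ x, τ (τ x) = x)
    {p : F[X]} [Fact (Irreducible p)] (hm : p.Monic) (h0 : p.coeff 0 ≠ 0) (hfix : conjRev τ p = p) :
    ∃ i : ℕ, ∀ k : ℕ, (fun x : AdjoinRoot p => x⁻¹ ^ q)^[k] (AdjoinRoot.root p) =
      AdjoinRoot.root p ^ ((q ^ 2) ^ (k * i)) := by
  classical
  have hφ : Irreducible p := Fact.out
  obtain ⟨ℓ, hℓ⟩ := CharP.exists F
  have : Fact ℓ.Prime := ⟨CharP.char_is_prime F ℓ⟩
  have : Module.Finite F (AdjoinRoot p) := (AdjoinRoot.powerBasis hm.ne_zero).finite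
  have : Finite (AdjoinRoot p) := Module.finite_of_finite F
  set ρ := AdjoinRoot.root p with hρ
  have hρ0 : ρ ≠ 0 := by
    rw [hρ, ← AdjoinRoot.mk_X]
    intro h
    exact h0 (X_dvd_iff.1 ((hφ.associated_of_dvd irreducible_X (AdjoinRoot.mk_eq_zero.1 h)).symm.dvd))
  have h1 : aeval ρ (p.map τ).reverse = 0 := by
    have hc : (p.map τ).reverse = C (τ (p.coeff 0)) * p := by
      conv_rhs => arg 2; rw [← hfix]
      rw [conjRev, ← mul_assoc, ← C_mul, mul_inv_cancel₀ ((map_ne_zero τ).2 h0), C_1, one_mul]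
    rw [hc, map_mul, hρ, AdjoinRoot.aeval_eq p, AdjoinRoot.mk_self, mul_zero]
  let : Invertible ρ⁻¹ := invertibleOfNonzero (inv_ne_zero hρ0)
  have h2 : aeval ρ⁻¹ (p.map τ) = 0 := (eval₂_reverse_eq_zero_iff (algebraMap F (AdjoinRoot p)) ρ⁻¹ _).1
    (by rw [invOf_eq_inv, inv_inv]; exact h1)
  obtain ⟨f, hfp, hf⟩ := FiniteField.card F ℓ
  obtain ⟨e, -, he⟩ := (Nat.dvd_prime_pow hfp).1
    (show q ∣ ℓ ^ (f : ℕ) from hf ▸ hF ▸ dvd_pow_self q two_ne_zero)
  have : CharP (AdjoinRoot p) ℓ := charP_of_injective_algebraMap (algebraMap F _).injective ℓ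
  have h3 : aeval (ρ⁻¹ ^ q) p = 0 := by
    have h := congrArg (iterateFrobenius (AdjoinRoot p) ℓ e) h2
    rw [map_zero, aeval_def, hom_eval₂, eval₂_map, iterateFrobenius_def, ← he] at h
    rw [show ((iterateFrobenius (AdjoinRoot p) ℓ e).comp (algebraMap F (AdjoinRoot p))).comp τ =
        algebraMap F (AdjoinRoot p) from RingHom.ext fun x => by
      rw [RingHom.comp_apply, RingHom.comp_apply, iterateFrobenius_def, ← he, ← map_pow, ← hτ, hτ2]] at h
    exact h
  let σ : AdjoinRoot p →ₐ[F] AdjoinRoot p :=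
    AdjoinRoot.liftAlgHom p (Algebra.ofId F (AdjoinRoot p)) (ρ⁻¹ ^ q) h3
  let σ' : AdjoinRoot p ≃ₐ[F] AdjoinRoot p := AlgEquiv.ofBijective σ
    (Finite.injective_iff_bijective.1 σ.toRingHom.injective)
  obtain ⟨i, hi⟩ := FiniteField.exists_forall_apply_eq_pow F ℓ (AdjoinRoot p) σ'
  have hy : ρ⁻¹ ^ q = ρ ^ (q ^ 2) ^ i := by
    rw [← hF, ← Nat.card_eq_fintype_card, ← hi]
    change _ = σ ρ
    exact (AdjoinRoot.liftAlgHom_root p (Algebra.ofId F (AdjoinRoot p)) _ h3).symm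
  refine ⟨i, fun k => ?_⟩
  induction k with
  | zero => simp
  | succ k ih =>
    rw [Function.iterate_succ_apply', ih, ← inv_pow, ← pow_mul, mul_comm, pow_mul, hy, ← pow_mul, ← pow_add,
      Nat.succ_mul, add_comm]

/-- No irreducible polynomial of even degree is conjugate-reciprocal. -/
theorem not_fixed_even (hF : Fintype.card F = q ^ 2) (hτ : ∀ x, τ x = x ^ q) (hτ2 : ∀ x, τ (τ x) = x)
    {p : F[X]} (hp : Irreducible p) (hm : p.Monic) (h0 : p.coeff 0 ≠ 0) {k : ℕ} (hk : p.natDegree = 2 * k) :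
    conjRev τ p ≠ p := by
  intro hfix
  have := Fact.mk hp
  obtain ⟨i, hi⟩ := fixed_root_iter hF hτ hτ2 hm h0 hfix
  set E := AdjoinRoot p
  have : Module.Finite F E := (AdjoinRoot.powerBasis hm.ne_zero).finite
  have : Finite E := Module.finite_of_finite F
  have hrank : Module.finrank F E = 2 * k := by
    rw [(AdjoinRoot.powerBasis hm.ne_zero).finrank, AdjoinRoot.powerBasis_dim, hk]
  have hpow : ∀ j, ∀ x : E, (FiniteField.frobeniusAlgHom F E ^ j) x = x ^ (q ^ 2) ^ j := by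
    intro j
    induction j with
    | zero => simp
    | succ j ih =>
      intro x
      rw [pow_succ, AlgHom.mul_apply, ih, FiniteField.coe_frobeniusAlgHom]
      dsimp only
      rw [hF, ← pow_mul, ← pow_succ']
  have hord := FiniteField.orderOf_frobeniusAlgHom F E
  rw [hrank] at hord
  have hfull : ∀ x : E, x ^ (q ^ 2) ^ (2 * k) = x := fun x => by
    rw [← hpow, ← hord, pow_orderOf_eq_one, AlgHom.one_apply]
  set ρ := AdjoinRoot.root p
  have hper : ∀ j, ρ ^ (q ^ 2) ^ (2 * k * j) = ρ := by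
    intro j
    induction j with
    | zero => simp
    | succ j ih => rw [Nat.mul_succ, pow_add, pow_mul, ih, hfull]
  have h2 : ∀ j, (fun x : E => x⁻¹ ^ q)^[2 * j] ρ = ρ ^ (q ^ 2) ^ j := by
    intro j
    induction j with
    | zero => simp
    | succ j ih =>
      rw [show 2 * (j + 1) = (2 * j + 1) + 1 by ring, Function.iterate_succ_apply', Function.iterate_succ_apply', ih]
      show ((ρ ^ (q ^ 2) ^ j)⁻¹ ^ q)⁻¹ ^ q = _
      rw [inv_pow (ρ ^ (q ^ 2) ^ j) q, inv_inv, ← pow_mul, ← pow_mul]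
      congr 1
      ring
  have hfix' : FiniteField.frobeniusAlgHom F E ^ k = 1 := by
    refine AdjoinRoot.algHom_ext ?_
    rw [hpow, ← h2, hi, hper, AlgHom.one_apply]
  have hdvd := orderOf_dvd_of_pow_eq_one hfix'
  rw [hord] at hdvd
  have := hp.natDegree_pos
  have := Nat.le_of_dvd (by omega) hdvd
  omega

/-- A root of a fixed cubic has order dividing `q^3 + 1`. -/
theorem fixed_cubic_dvd (hF : Fintype.card F = q ^ 2) (hτ : ∀ x, τ x = x ^ q) (hτ2 : ∀ x, τ (τ x) = x)
    {p : F[X]} (hp : Irreducible p) (hm : p.Monic) (h0 : p.coeff 0 ≠ 0) (hk : p.natDegree = 3)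
    (hfix : conjRev τ p = p) : p ∣ X ^ (q ^ 3 + 1) - 1 := by
  have := Fact.mk hp
  obtain ⟨i, hi⟩ := fixed_root_iter hF hτ hτ2 hm h0 hfix
  set E := AdjoinRoot p
  have : Module.Finite F E := (AdjoinRoot.powerBasis hm.ne_zero).finite
  have : Finite E := Module.finite_of_finite F
  let : Fintype E := Fintype.ofFinite E
  have hcard : Fintype.card E = (q ^ 2) ^ 3 := by
    rw [Module.card_eq_pow_finrank (K := F), (AdjoinRoot.powerBasis hm.ne_zero).finrank,
      AdjoinRoot.powerBasis_dim, hk, hF]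
  set ρ := AdjoinRoot.root p with hρ
  have h3 := hi 3
  simp only [Function.iterate_succ, Function.iterate_zero, Function.comp_apply, id_eq, inv_pow, inv_inv,
    ← pow_mul] at h3
  rw [show q ^ (2 * (3 * i)) = Fintype.card E ^ i by rw [hcard, ← pow_mul, ← pow_mul],
    FiniteField.pow_card_pow] at h3
  have hρ0 : ρ ≠ 0 := by
    rw [hρ, ← AdjoinRoot.mk_X]
    intro h
    exact h0 (X_dvd_iff.1 ((hp.associated_of_dvd irreducible_X (AdjoinRoot.mk_eq_zero.1 h)).symm.dvd))
  rw [← AdjoinRoot.mk_eq_zero, map_sub, map_pow, AdjoinRoot.mk_X, map_one, sub_eq_zero, ← hρ, pow_succ]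
  have h4 : ρ ^ q ^ 3 = ρ⁻¹ := by
    apply inv_injective
    rw [inv_inv]
    refine Eq.trans ?_ h3
    congr 2
    ring
  rw [h4, inv_mul_cancel₀ hρ0]

omit [Fintype F] in
theorem herm_adj (hτ : ∀ x, τ x = x ^ q) (M : Matrix (Fin n) (Fin n) F) (x y : Fin n → F) :
    Cfsg.hermForm n F q (conjT τ M *ᵥ x) y = Cfsg.hermForm n F q x (M *ᵥ y) := by
  have h : ∀ u v : Fin n → F, Cfsg.hermForm n F q u v = u ⬝ᵥ (τ ∘ v) := fun u v => by
    simp [Cfsg.hermForm, dotProduct, hτ]
  have hc : τ ∘ (M *ᵥ y) = M.map τ *ᵥ (τ ∘ y) := funext fun i => RingHom.map_mulVec τ M y i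
  rw [h, h, hc, conjT, Matrix.mulVec_transpose, ← Matrix.dotProduct_mulVec]

/-- The kernel of an irreducible polynomial that is not conjugate-reciprocal is totally isotropic. -/
theorem herm_ker_zero (hτ : ∀ x, τ x = x ^ q) (hτ2 : ∀ x, τ (τ x) = x) {A : Matrix (Fin n) (Fin n) F}
    (hA : conjT τ A * A = 1) {p : F[X]} (hp : Irreducible p) (hm : p.Monic) (h0 : p.coeff 0 ≠ 0)
    (hne : conjRev τ p ≠ p) {u v : Fin n → F} (hu : aeval A p *ᵥ u = 0) (hv : aeval A p *ᵥ v = 0) :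
    Cfsg.hermForm n F q u v = 0 := by
  have hp' := irreducible_conjRev hτ2 hm h0 hp
  obtain ⟨a, b, hab⟩ : IsCoprime (conjRev τ p) p := hp'.coprime_iff_not_dvd.2 fun h =>
    hne (eq_of_monic_of_associated (monic_conjRev h0) hm (hp'.associated_of_dvd hp h))
  have h1 : u = aeval A (conjRev τ p) *ᵥ (aeval A a *ᵥ u) := by
    have := congrArg (fun r => aeval A r *ᵥ u) hab
    simp only [map_add, map_mul, map_one, Matrix.one_mulVec, Matrix.add_mulVec, ← Matrix.mulVec_mulVec, hu,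
      Matrix.mulVec_zero, add_zero] at this
    conv_lhs => rw [← this, Matrix.mulVec_mulVec, ← map_mul, mul_comm, map_mul, ← Matrix.mulVec_mulVec]
  obtain ⟨r, hr⟩ : ∃ r : F[X], aeval A (conjRev τ p) = aeval A r * conjT τ (aeval A p) := by
    refine ⟨C (τ (p.coeff 0))⁻¹ * X ^ (p.map τ).natDegree, ?_⟩
    rw [conjRev, map_mul, reverse, aeval_reflect_of_inv (Mi := conjT τ A) hA _ _ le_rfl,
      show aeval (conjT τ A) (p.map τ) = conjT τ (aeval A p) from aeval_map_transpose A p,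
      map_mul, map_pow, aeval_X, mul_assoc]
  rw [h1, hr, ← Matrix.mulVec_mulVec, ← conjT_conjT hτ2 (aeval A r), herm_adj hτ, herm_adj hτ]
  have hc : conjT τ A * A = A * conjT τ A := by rw [hA, mul_eq_one_comm.1 hA]
  have hcomm : conjT τ (aeval A r) * aeval A p = aeval A p * conjT τ (aeval A r) := by
    have e : aeval (conjT τ A) (r.map τ) = conjT τ (aeval A r) := aeval_map_transpose A r
    rw [← e]
    exact (commute_aeval (commute_aeval hc (r.map τ)).symm p).symm
  rw [Matrix.mulVec_mulVec, ← hcomm, ← Matrix.mulVec_mulVec, hv, Matrix.mulVec_zero]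
  simp [Cfsg.hermForm, zero_pow (show q ≠ 0 from fun h => by simpa [h] using hτ 0)]

end CfsgLib.NormalCover
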