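import Mathlib
import Cfsg.Agent.Lib.NormalCover.UnitaryTools
import Cfsg.Agent.Lib.NormalCover.UnitaryStab

/-!
`PSU_4(q)` is covered by the conjugates of the stabiliser of a totally isotropic line of the projective space
and of the stabiliser of a non-isotropic point.
-/

set_option autoImplicit false

namespace CfsgLib.NormalCover

open Polynomial Matrix CfsgLib.SpecUnitary CfsgLib.ClassicalGroups CfsgLib.UnitaryEmbed

variable {F : Type*} [Field F] [Fintype F] {q n : ℕ} {τ : F →+* F}

/-- An invariant totally isotropic plane. -/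
def TI2 (q : ℕ) (A : Matrix (Fin n) (Fin n) F) : Prop :=
  ∃ W : Submodule F (Fin n → F), Module.finrank F W = 2 ∧
    (∀ u ∈ W, ∀ v ∈ W, Cfsg.hermForm n F q u v = 0) ∧ ∀ v ∈ W, A *ᵥ v ∈ W

theorem span_pair_ti (hF : Fintype.card F = q ^ 2) {x y : Fin n → F} (hx : x ≠ 0)
    (hy : ∀ a : F, a • x ≠ y) (hxx : Cfsg.hermForm n F q x x = 0) (hxy : Cfsg.hermForm n F q x y = 0)
    (hyy : Cfsg.hermForm n F q y y = 0) : Module.finrank F (Submodule.span F {x, y}) = 2 ∧
      ∀ u ∈ Submodule.span F {x, y}, ∀ v ∈ Submodule.span F {x, y}, Cfsg.hermForm n F q u v = 0 := by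
  refine ⟨?_, ?_⟩
  · have := finrank_span_eq_card (R := F) ((LinearIndependent.pair_iff' hx).2 hy)
    rwa [Matrix.range_cons_cons_empty, Fintype.card_fin] at this
  · intro u hu v hv
    obtain ⟨a, b, rfl⟩ := Submodule.mem_span_pair.1 hu
    obtain ⟨c, d, rfl⟩ := Submodule.mem_span_pair.1 hv
    have hyx : Cfsg.hermForm n F q y x = 0 := by
      rw [hermForm_symm hF n x y, hxy, zero_pow (by have := herm_two_le hF; omega)]
    obtain ⟨τ, hτ, -, -⟩ := exists_conj hF
    simp only [← hermSesq_apply τ hτ] at hxx hxy hyy hyx ⊢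
    simp [hxx, hxy, hyy, hyx]

theorem ti2_mk (hF : Fintype.card F = q ^ 2) {A : Matrix (Fin n) (Fin n) F} {x y : Fin n → F} (hx : x ≠ 0)
    (hy : ∀ a : F, a • x ≠ y) (hxx : Cfsg.hermForm n F q x x = 0) (hxy : Cfsg.hermForm n F q x y = 0)
    (hyy : Cfsg.hermForm n F q y y = 0) (hAx : A *ᵥ x ∈ Submodule.span F {x, y})
    (hAy : A *ᵥ y ∈ Submodule.span F {x, y}) : TI2 q A := by
  obtain ⟨h1, h2⟩ := span_pair_ti hF hx hy hxx hxy hyy
  refine ⟨_, h1, h2, fun v hv => ?_⟩
  obtain ⟨a, b, rfl⟩ := Submodule.mem_span_pair.1 hv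
  rw [Matrix.mulVec_add, Matrix.mulVec_smul, Matrix.mulVec_smul]
  exact add_mem (Submodule.smul_mem _ a hAx) (Submodule.smul_mem _ b hAy)

omit [Fintype F] in
theorem aeval_quadratic {A : Matrix (Fin n) (Fin n) F} {p : F[X]} (hm : p.Monic) (hd : p.natDegree = 2)
    (z : Fin n → F) : aeval A p *ᵥ z = p.coeff 0 • z + p.coeff 1 • (A *ᵥ z) + A *ᵥ (A *ᵥ z) := by
  have h2 : p.coeff 2 = 1 := by rw [← hd]; exact hm.coeff_natDegree
  rw [aeval_eq_sum_range, hd, Finset.sum_range_succ, Finset.sum_range_succ, Finset.sum_range_succ,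
    Finset.sum_range_zero, zero_add, h2, one_smul, pow_zero, pow_one, pow_two, Matrix.add_mulVec,
    Matrix.add_mulVec, Matrix.smul_mulVec, Matrix.smul_mulVec, Matrix.one_mulVec, ← Matrix.mulVec_mulVec]

/-- A quadratic without root having a kernel gives an invariant totally isotropic plane. -/
theorem ti2_of_quadratic (hF : Fintype.card F = q ^ 2) (hτ : ∀ x, τ x = x ^ q) (hτ2 : ∀ x, τ (τ x) = x)
    {A : Matrix (Fin n) (Fin n) F} (hA : conjT τ A * A = 1) {p : F[X]} (hm : p.Monic) (hd : p.natDegree = 2)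
    (hr : ∀ c : F, p.eval c ≠ 0) {z : Fin n → F} (hz : z ≠ 0) (hpz : aeval A p *ᵥ z = 0) : TI2 q A := by
  have hp : Irreducible p := by
    rw [hm.irreducible_iff_roots_eq_zero_of_degree_le_three hd.ge (by omega)]
    exact Multiset.eq_zero_of_forall_notMem fun c hc => hr c (isRoot_of_mem_roots hc)
  have h0 : p.coeff 0 ≠ 0 := coeff_zero_ne_zero hp hm hd.ge
  have hne := not_fixed_even hF hτ hτ2 hp hm h0 (k := 1) hd
  have hpAz : aeval A p *ᵥ (A *ᵥ z) = 0 := by
    conv_lhs => rw [show A = aeval A (X : F[X]) from (aeval_X A).symm, Matrix.mulVec_mulVec,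
      aeval_X, ← (commute_aeval (A := A) (S := A) rfl p).symm, ← Matrix.mulVec_mulVec, hpz,
      Matrix.mulVec_zero]
  have hti := fun u v => herm_ker_zero (u := u) (v := v) hτ hτ2 hA hp hm h0 hne
  have hq2 := aeval_quadratic (A := A) hm hd z
  rw [hpz] at hq2
  refine ti2_mk hF (x := z) (y := A *ᵥ z) hz (fun a ha => hr a ?_) (hti _ _ hpz hpz) (hti _ _ hpz hpAz)
    (hti _ _ hpAz hpAz) (Submodule.subset_span (by simp)) ?_
  · have h1 : aeval A p *ᵥ z = (p.eval a) • z := by
      rw [aeval_quadratic hm hd, ← ha, Matrix.mulVec_smul, ← ha, eval_eq_sum_range, hd,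
        Finset.sum_range_succ, Finset.sum_range_succ, Finset.sum_range_succ, Finset.sum_range_zero,
        show p.coeff 2 = 1 by rw [← hd]; exact hm.coeff_natDegree]
      module
    rw [hpz] at h1
    exact (smul_eq_zero.1 h1.symm).resolve_right hz
  · refine Submodule.mem_span_pair.2 ⟨-p.coeff 0, -p.coeff 1, ?_⟩
    have h2 : A *ᵥ (A *ᵥ z) = (0 : Fin n → F) - p.coeff 0 • z - p.coeff 1 • (A *ᵥ z) := by
      rw [hq2]; module
    rw [h2]
    module

omit [Fintype F] in
theorem exists_eigvec {A : Matrix (Fin n) (Fin n) F} {c : F} (hc : A.charpoly.eval c = 0) :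
    ∃ v : Fin n → F, v ≠ 0 ∧ A *ᵥ v = c • v := by
  rw [Matrix.eval_charpoly] at hc
  obtain ⟨v, hv0, hv⟩ := Matrix.exists_mulVec_eq_zero_iff.2 hc
  rw [Matrix.sub_mulVec, sub_eq_zero, Matrix.scalar_apply, ← Matrix.smul_one_eq_diagonal,
    Matrix.smul_mulVec, Matrix.one_mulVec] at hv
  exact ⟨v, hv0, hv.symm⟩

theorem su4_no_eigvec (hF : Fintype.card F = q ^ 2) (hτ : ∀ x, τ x = x ^ q) (hτ2 : ∀ x, τ (τ x) = x)
    {A : Matrix (Fin 4) (Fin 4) F} (hA : conjT τ A * A = 1)
    (hev : ∀ (v : Fin 4 → F) (c : F), A *ᵥ v = c • v → v = 0) : TI2 q A := by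
  set χ := A.charpoly with hχ
  have hχm : χ.Monic := A.charpoly_monic
  have hχd : χ.natDegree = 4 := by rw [hχ, Matrix.charpoly_natDegree_eq_dim, Fintype.card_fin]
  have hχA : aeval A χ = 0 := Matrix.aeval_self_charpoly A
  have hr : ∀ c, χ.eval c ≠ 0 := fun c hc => by
    obtain ⟨v, hv0, hv⟩ := exists_eigvec hc
    exact hv0 (hev v c hv)
  by_cases hirr : Irreducible χ
  · exfalso
    have h0 : χ.coeff 0 ≠ 0 := coeff_zero_ne_zero hirr hχm (by omega)
    have hAt : Aᵀ * A.map τ = 1 := by simpa [conjT] using congrArg Matrix.transpose hA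
    have hk : aeval A (conjRev τ χ) = 0 := by
      rw [conjRev, map_mul, aeval_conj_reverse hAt hχA, mul_zero]
    have h1 : χ ∣ conjRev τ χ := by
      have hmin : minpoly F A = χ := eq_of_monic_of_associated (minpoly.monic (Matrix.isIntegral A)) hχm
        (((hirr.dvd_iff.1 (minpoly.dvd F A hχA)).resolve_left (minpoly.not_isUnit F A)).symm)
      rw [← hmin]; exact minpoly.dvd F A (hmin.symm ▸ hk)
    exact not_fixed_even hF hτ hτ2 hirr hχm h0 (k := 2) hχd (eq_of_monic_of_associated (monic_conjRev h0) hχm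
      ((hirr.associated_of_dvd (irreducible_conjRev hτ2 hχm h0 hirr) h1).symm))
  · rw [hχm.irreducible_iff_natDegree] at hirr
    push Not at hirr
    obtain ⟨a, b, ha, hb, hab, ha1, hb1⟩ := hirr (fun h => by rw [h, natDegree_one] at hχd; omega)
    have hsum : a.natDegree + b.natDegree = 4 := by rw [← ha.natDegree_mul hb, hab, hχd]
    have hra : ∀ c : F, a.eval c ≠ 0 := fun c hc => hr c (by rw [← hab, eval_mul, hc, zero_mul])
    have hrb : ∀ c : F, b.eval c ≠ 0 := fun c hc => hr c (by rw [← hab, eval_mul, hc, mul_zero])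
    have hne1 : ∀ p : F[X], p.Monic → (∀ c : F, p.eval c ≠ 0) → p.natDegree ≠ 1 := fun p hp hpr h1 => by
      refine hpr (-p.coeff 0) ?_
      rw [hp.eq_X_add_C h1]
      simp
    have ha2 := hne1 a ha hra
    have hb2 := hne1 b hb hrb
    by_cases hbA : aeval A b = 0
    · refine ti2_of_quadratic hF hτ hτ2 hA hb (by omega) hrb (z := Pi.single 0 1) ?_ (by rw [hbA, Matrix.zero_mulVec])
      exact fun h => one_ne_zero (α := F) (by simpa using congrFun h 0)
    · obtain ⟨w, hw⟩ : ∃ w, aeval A b *ᵥ w ≠ 0 := by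
        by_contra hc
        push Not at hc
        exact hbA (Matrix.ext_of_mulVec_single fun i => by rw [hc, Matrix.zero_mulVec])
      refine ti2_of_quadratic hF hτ hτ2 hA ha (by omega) hra hw ?_
      rw [Matrix.mulVec_mulVec, ← map_mul, hab, hχA, Matrix.zero_mulVec]

theorem su4_isotropic_eigvec (hF : Fintype.card F = q ^ 2) (hτ : ∀ x, τ x = x ^ q) (hτ2 : ∀ x, τ (τ x) = x)
    {A : Matrix (Fin 4) (Fin 4) F} (hA : conjT τ A * A = 1)
    (hiso : ∀ u v, Cfsg.hermForm 4 F q (A *ᵥ u) (A *ᵥ v) = Cfsg.hermForm 4 F q u v)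
    {v : Fin 4 → F} {c : F} (hv0 : v ≠ 0) (hv : A *ᵥ v = c • v)
    (hall : ∀ (u : Fin 4 → F) (e : F), A *ᵥ u = e • u → Cfsg.hermForm 4 F q u u = 0) : TI2 q A := by
  classical
  have hc0 : c ≠ 0 := fun h => by
    rw [h, zero_smul] at hv
    exact hv0 (Matrix.mulVec_injective_iff_isUnit.2 (isUnit_iff_exists_inv'.2 ⟨_, hA⟩)
      (hv.trans (Matrix.mulVec_zero A).symm))
  have hvv := hall v c hv
  let f : (Fin 4 → F) →ₗ[F] F := hermSesq 4 τ v
  have hf : ∀ u, f u = Cfsg.hermForm 4 F q u v := fun u => hermSesq_apply τ hτ v u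
  set P := LinearMap.ker f with hPdef
  have hP : ∀ u, u ∈ P ↔ Cfsg.hermForm 4 F q u v = 0 := fun u => by rw [hPdef, LinearMap.mem_ker, hf]
  have hPd : Module.finrank F P = 3 := by
    have hf0 : f ≠ 0 := fun h => hv0 (hermSesq_separatingLeft τ v fun u => LinearMap.congr_fun h u)
    have h1 := LinearMap.finrank_range_add_finrank_ker f
    rw [LinearMap.range_eq_top.2 (LinearMap.surjective hf0), finrank_top, Module.finrank_self,
      Module.finrank_fin_fun] at h1
    show Module.finrank F (LinearMap.ker f) = 3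
    omega
  have hinv : ∀ u ∈ P, A *ᵥ u ∈ P := fun u hu => by
    rw [hP] at hu ⊢
    have := hiso u v
    rw [hv, hermForm_smul_right, hu] at this
    exact (mul_eq_zero.1 this).resolve_left (pow_ne_zero _ hc0)
  let T : P →ₗ[F] P := (Matrix.mulVecLin A).restrict hinv
  have hT : ∀ u, (T u : Fin 4 → F) = A *ᵥ u := fun u => rfl
  have hTp : ∀ (g : F[X]) (u : P), (aeval T g u : Fin 4 → F) = aeval A g *ᵥ u := by
    intro g
    induction g using Polynomial.induction_on with
    | C a => intro u; simp [Algebra.algebraMap_eq_smul_one, Matrix.smul_mulVec]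
    | add g h hg hh => intro u; simp [hg, hh, Matrix.add_mulVec]
    | monomial k a ih =>
      intro u
      rw [pow_succ, ← mul_assoc, map_mul (aeval T) (C a * X ^ k), map_mul (aeval A) (C a * X ^ k), aeval_X, aeval_X,
        Module.End.mul_apply, ih, hT, Matrix.mulVec_mulVec]
  have hvP : v ∈ P := (hP v).2 hvv
  by_cases h2 : ∃ u ∈ P, (∀ a : F, a • v ≠ u) ∧ ∃ e : F, A *ᵥ u = e • u
  · obtain ⟨u, huP, hu, e, he⟩ := h2
    refine ti2_mk hF hv0 hu hvv ?_ (hall u e he) ?_ ?_
    · rw [hermForm_symm hF 4 u v, (hP u).1 huP, zero_pow (by have := herm_two_le hF; omega)]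
    · rw [hv]; exact Submodule.smul_mem _ _ (Submodule.subset_span (by simp))
    · rw [he]; exact Submodule.smul_mem _ _ (Submodule.subset_span (by simp))
  push Not at h2
  have heig : ∀ (u : P) (e : F), T u = e • u → ∃ a : F, a • v = u.1 := fun u e h => by
    by_contra hne
    push Not at hne
    exact h2 u.1 u.2 hne e (congrArg Subtype.val h)
  have heig' : ∀ (u : P) (e : F), u ≠ 0 → T u = e • u → e = c := fun u e hu h => by
    obtain ⟨a, ha⟩ := heig u e h
    have h' : A *ᵥ u.1 = e • u.1 := congrArg Subtype.val h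
    rw [← ha, Matrix.mulVec_smul, hv, smul_comm] at h'
    have hne : a • v ≠ 0 := fun h0 => hu (Subtype.ext (ha.symm.trans h0))
    exact (smul_left_injective F hne h').symm
  set N : P →ₗ[F] P := T - c • 1 with hN
  have hNa : ∀ u, N u = T u - c • u := fun u => rfl
  set χ := T.charpoly with hχ
  have hχm : χ.Monic := T.charpoly_monic
  have hχd : χ.natDegree = 3 := by rw [hχ, LinearMap.charpoly_natDegree, hPd]
  have hroot : ∀ e, χ.IsRoot e → e = c := fun e he => by
    obtain ⟨u, hu⟩ := (Module.End.hasEigenvalue_iff_isRoot_charpoly T e).2 he |>.exists_hasEigenvector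
    exact heig' u e hu.2 hu.apply_eq_smul
  have hcroot : χ.IsRoot c := (Module.End.hasEigenvalue_iff_isRoot_charpoly T c).1
    (Module.End.hasEigenvalue_of_hasEigenvector (x := ⟨v, hvP⟩)
      ⟨Module.End.mem_eigenspace_iff.2 (Subtype.ext hv), fun h => hv0 (congrArg Subtype.val h)⟩)
  obtain ⟨g, hg⟩ := dvd_iff_isRoot.2 hcroot
  have hgm : g.Monic := (monic_X_sub_C c).of_mul_monic_left (hg ▸ hχm)
  have hgd : g.natDegree = 2 := by
    rw [hg, (monic_X_sub_C c).natDegree_mul hgm, natDegree_X_sub_C] at hχd; omega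
  have hNpoly : ∀ u, aeval T (X - C c) u = N u := fun u => by
    simp [hN, Algebra.algebraMap_eq_smul_one]
  have hNker : ∀ u, N u = 0 → ∃ a : F, a • v = u.1 := fun u hu => heig u c (sub_eq_zero.1 (hNa u ▸ hu))
  have hkerd : Module.finrank F (LinearMap.ker N) ≤ 1 := by
    have hle : LinearMap.ker N ≤ Submodule.span F {(⟨v, hvP⟩ : P)} := fun u hu => by
      obtain ⟨a, ha⟩ := hNker u (LinearMap.mem_ker.1 hu)
      exact Submodule.mem_span_singleton.2 ⟨a, Subtype.ext ha⟩
    exact (Submodule.finrank_mono hle).trans ((finrank_span_le_card _).trans (by simp))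
  by_cases hgr : ∃ e, g.eval e = 0
  · obtain ⟨e, he⟩ := hgr
    obtain rfl := hroot e (by rw [IsRoot, hg, eval_mul, he, mul_zero])
    obtain ⟨h, hh⟩ := dvd_iff_isRoot.2 he
    have hhm : h.Monic := (monic_X_sub_C e).of_mul_monic_left (hh ▸ hgm)
    have hhd : h.natDegree = 1 := by
      rw [hh, (monic_X_sub_C e).natDegree_mul hhm, natDegree_X_sub_C] at hgd; omega
    have hh' : h = X - C e := by
      have h1 := hhm.eq_X_add_C hhd
      have := hroot (-h.coeff 0) (by rw [IsRoot, hg, hh]; conv_lhs => rw [h1]; simp)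
      rw [h1, ← this]; simp [sub_eq_add_neg]
    obtain ⟨w, hw⟩ : ∃ w, N (N w) ≠ 0 := by
      by_contra hc
      push Not at hc
      have h1 := LinearMap.finrank_range_add_finrank_ker N
      have h2 : LinearMap.range N ≤ LinearMap.ker N := by
        rintro _ ⟨u, rfl⟩; exact LinearMap.mem_ker.2 (hc u)
      have := Submodule.finrank_mono h2
      omega
    have hN3 : N (N (N w)) = 0 := by
      have h0 : aeval T χ w = 0 := by rw [hχ, LinearMap.aeval_self_charpoly]; rfl
      rw [hg, hh, hh', map_mul, map_mul, Module.End.mul_apply, Module.End.mul_apply] at h0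
      simpa only [hNpoly] using h0
    obtain ⟨d, hd⟩ := hNker _ hN3
    set u := (N w).1 with hu
    have hd0 : d ≠ 0 := fun h => hw (Subtype.ext (by rw [← hd, h, zero_smul]; rfl))
    have hAw : A *ᵥ w.1 = e • w.1 + u := by
      have : u = A *ᵥ w.1 - e • w.1 := congrArg Subtype.val (hNa w)
      rw [this]; abel
    have hAu : A *ᵥ u = e • u + d • v := by
      have : d • v = A *ᵥ u - e • u := hd.trans (congrArg Subtype.val (hNa (N w)))
      rw [this]; abel
    have huv := (hP u).1 (N w).2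
    have hwv := (hP w.1).1 w.2
    have hvu : Cfsg.hermForm 4 F q v u = 0 := by
      rw [hermForm_symm hF 4 u v, huv, zero_pow (by have := herm_two_le hF; omega)]
    have e1 := hiso u u
    have e2 := hiso w.1 u
    rw [hAu] at e1 e2
    rw [hAw] at e2
    simp only [← hermSesq_apply τ hτ, map_add, map_smulₛₗ, LinearMap.add_apply, LinearMap.smul_apply,
      smul_eq_mul, RingHom.id_apply] at e1 e2
    simp only [hermSesq_apply τ hτ, huv, hwv, hvu, hvv, mul_zero, add_zero] at e1 e2
    have huu : Cfsg.hermForm 4 F q u u = 0 := by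
      by_contra hne
      have h1 : τ e * e = 1 := mul_right_cancel₀ hne (by linear_combination e1)
      have h2 : τ e * Cfsg.hermForm 4 F q u u = 0 := by
        linear_combination e2 - Cfsg.hermForm 4 F q w.1 u * h1
      exact mul_ne_zero ((map_ne_zero τ).2 hc0) hne h2
    refine ti2_mk hF hv0 (fun a ha => ?_) hvv hvu huu ?_ ?_
    · have h0 : d • v = 0 := by
        have : e • (a • v) + d • v = e • (a • v) := by
          conv_lhs => rw [ha, ← hAu]
          rw [← ha, Matrix.mulVec_smul, hv, smul_comm]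
        simpa using this
      exact hd0 ((smul_eq_zero.1 h0).resolve_right hv0)
    · rw [hv]; exact Submodule.smul_mem _ _ (Submodule.subset_span (by simp))
    · rw [hAu]
      exact add_mem (Submodule.smul_mem _ _ (Submodule.subset_span (by simp)))
        (Submodule.smul_mem _ _ (Submodule.subset_span (by simp)))
  · push Not at hgr
    obtain ⟨w, hw⟩ : ∃ w, N w ≠ 0 := by
      by_contra hc
      push Not at hc
      rw [show N = 0 from LinearMap.ext hc, LinearMap.ker_zero, finrank_top, hPd] at hkerd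
      omega
    refine ti2_of_quadratic hF hτ hτ2 hA hgm hgd hgr (z := (N w).1) (fun h => hw (Subtype.ext h)) ?_
    rw [← hTp, ← hNpoly, ← Module.End.mul_apply, ← map_mul, mul_comm, ← hg, hχ, LinearMap.aeval_self_charpoly]
    rfl

/-- `PSU_4(q)`. -/
theorem psu_four (hF : Fintype.card F = q ^ 2) : TwoCovered (Cfsg.PSU 4 F q) := by
  classical
  obtain ⟨τ, hτ, hne, hτ2⟩ := exists_conj hF
  have hq : 2 ≤ q := herm_two_le hF
  obtain ⟨a, ha⟩ := exists_norm hF (-1 : F) (by rw [← hτ, map_neg, map_one])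
  have ha0 : a ≠ 0 := fun h => by rw [h, zero_pow (by omega)] at ha; exact one_ne_zero (neg_eq_zero.1 ha.symm)
  let x₀ : Fin 4 → F := ![1, a, 0, 0]
  let y₀ : Fin 4 → F := ![0, 0, 1, a]
  have hq0 : q ≠ 0 := by omega
  have hxx : Cfsg.hermForm 4 F q x₀ x₀ = 0 := by
    simp [x₀, Cfsg.hermForm, Fin.sum_univ_four, ← pow_succ', ha]
  have hxy : Cfsg.hermForm 4 F q x₀ y₀ = 0 := by
    simp [x₀, y₀, Cfsg.hermForm, Fin.sum_univ_four, zero_pow hq0]
  have hyy : Cfsg.hermForm 4 F q y₀ y₀ = 0 := by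
    simp [y₀, Cfsg.hermForm, Fin.sum_univ_four, ← pow_succ', ha]
  obtain ⟨hW₀r, hW₀i⟩ := span_pair_ti hF (x := x₀) (y := y₀)
    (fun h => one_ne_zero (α := F) (by simpa [x₀] using congrFun h 0))
    (fun b h => one_ne_zero (α := F) (by
      have h0 : b = 0 := by simpa [x₀, y₀] using congrFun h 0
      simpa [x₀, y₀, h0] using (congrFun h 2).symm))
    hxx hxy hyy
  set W₀ : Submodule F (Fin 4 → F) := Submodule.span F {x₀, y₀} with hW₀def
  let L₀ : Submodule F (Fin 4 → F) := Submodule.span F {Pi.single 0 1}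
  refine twoCovered_quotient (stabSU W₀ q) (stabSU L₀ q) (center_le_stabSU hF _) (center_le_stabSU hF _)
    ?_ ?_ fun g => ?_
  · -- the stabiliser of the plane is proper
    intro htop
    obtain ⟨hW'r, hW'i⟩ := span_pair_ti hF (x := ![1, 0, a, 0])
      (y := ![0, 1, 0, a])
      (fun h => one_ne_zero (α := F) (by simpa using congrFun h 0))
      (fun b h => one_ne_zero (α := F) (by
        have h0 : b = 0 := by simpa using congrFun h 0
        simpa [h0] using (congrFun h 1).symm))
      (by simp [Cfsg.hermForm, Fin.sum_univ_four, ← pow_succ', ha])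
      (by simp [Cfsg.hermForm, Fin.sum_univ_four, zero_pow hq0])
      (by simp [Cfsg.hermForm, Fin.sum_univ_four, ← pow_succ', ha])
    set W' : Submodule F (Fin 4 → F) := Submodule.span F {![1, 0, a, 0], ![0, 1, 0, a]} with hW'def
    obtain ⟨x, hx⟩ := exists_SU_ti_map hF W₀ W' (hW'r.trans hW₀r.symm) hW₀i hW'i
    have hmem : x ∈ stabSU W₀ q := htop.symm ▸ Subgroup.mem_top x
    have heq : W₀ ≤ W' := by
      intro v hv
      obtain ⟨w, hw, hwv⟩ : ∃ w ∈ W₀, x.1.1 *ᵥ w = v := by
        let L := Matrix.SpecialLinearGroup.toLin' x.1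
        obtain ⟨w, rfl⟩ := L.surjective v
        rw [Matrix.SpecialLinearGroup.toLin'_apply] at hv ⊢
        exact ⟨w, (hmem w).2 hv, rfl⟩
      rw [← hwv]; exact hx w hw
    have hmem' := heq (show x₀ ∈ W₀ from Submodule.subset_span (by simp))
    rw [hW'def, Submodule.mem_span_pair] at hmem'
    obtain ⟨b, c, hbc⟩ := hmem'
    have hb : b = 1 := by simpa [x₀] using congrFun hbc 0
    have h2 := congrFun hbc 2
    simp [x₀, hb, ha0] at h2
  · -- the stabiliser of the point is proper
    intro htop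
    obtain ⟨x, c, hc, hx⟩ := exists_SU_to_line (n := 4) hF 0 (v := Pi.single 1 1)
      (by rw [← hermSesq_apply τ hτ, hermSesq_single, if_pos rfl]; exact one_ne_zero)
    have hmem : x ∈ stabSU L₀ q := htop.symm ▸ Subgroup.mem_top x
    have h1 := (hmem (Pi.single 0 1)).1 (Submodule.mem_span_singleton_self _)
    change x.1.1 *ᵥ Pi.single 0 1 ∈ L₀ at h1
    rw [hx, Submodule.mem_span_singleton] at h1
    obtain ⟨b, hb⟩ := h1
    exact hc (by simpa using (congrFun hb 1).symm)
  · set A := g.1.1 with hA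
    have hiso := mem_SU_iff.1 g.2
    have hAu : conjT τ A * A = 1 := by
      have h := gu_transpose_mul τ hτ ⟨g.1.toGL, mem_SU_iff_toGL.1 g.2⟩
      have h' := congrArg Matrix.transpose h
      rw [Matrix.transpose_mul, Matrix.transpose_transpose, Matrix.transpose_one] at h'
      exact h'
    by_cases hK : ∃ (v : Fin 4 → F) (c : F), A *ᵥ v = c • v ∧ Cfsg.hermForm 4 F q v v ≠ 0
    · obtain ⟨v, c, hv, hvv⟩ := hK
      have hv0 : v ≠ 0 := fun h => hvv (by simp [h, Cfsg.hermForm])
      obtain ⟨x, k, -, hx⟩ := exists_SU_to_line hF 0 hvv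
      obtain ⟨y, hy⟩ := exists_conj_mem_stabSU (W := L₀) (W' := Submodule.span F {v})
        (by rw [finrank_span_singleton hv0, finrank_span_singleton
          (fun h => one_ne_zero (α := F) (by simpa using congrFun h 0))])
        (x := x) (g := g) (fun u hu => by
          obtain ⟨b, rfl⟩ := Submodule.mem_span_singleton.1 hu
          rw [Matrix.mulVec_smul, hx, smul_smul]
          exact Submodule.smul_mem _ _ (Submodule.mem_span_singleton_self v))
        (fun u hu => by
          obtain ⟨b, rfl⟩ := Submodule.mem_span_singleton.1 hu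
          rw [Matrix.mulVec_smul, hv, smul_smul]
          exact Submodule.smul_mem _ _ (Submodule.mem_span_singleton_self v))
      exact ⟨y, Or.inr hy⟩
    push Not at hK
    have hti : TI2 q A := by
      by_cases hev : ∃ (v : Fin 4 → F) (c : F), A *ᵥ v = c • v ∧ v ≠ 0
      · obtain ⟨v, c, hv, hv0⟩ := hev
        exact su4_isotropic_eigvec hF hτ hτ2 hAu hiso hv0 hv hK
      · push Not at hev
        exact su4_no_eigvec hF hτ hτ2 hAu hev
    obtain ⟨W, hWr, hWi, hWA⟩ := hti
    obtain ⟨x, hx⟩ := exists_SU_ti_map hF W₀ W (hWr.trans hW₀r.symm) hW₀i hWi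
    obtain ⟨y, hy⟩ := exists_conj_mem_stabSU (hWr.trans hW₀r.symm) hx hWA
    exact ⟨y, Or.inl hy⟩

end CfsgLib.NormalCover
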