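import Mathlib
import Cfsg.Agent.Lib.NormalCover.PSU4
import Cfsg.Agent.Lib.NormalCover.PSL
import Cfsg.Agent.Lib.SpecUnitary.SULower

/-!
`PSU_3(q)`, `q` a power of `3`, is covered by the conjugates of the stabiliser of a non-isotropic point and of
the normaliser of the field with `q^6` elements: the latter contains regular unipotent elements.
-/

set_option autoImplicit false

namespace CfsgLib.NormalCover

open Polynomial Matrix CfsgLib.SpecUnitary CfsgLib.ClassicalGroups CfsgLib.UnitaryEmbed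

universe u

variable {F : Type u} [Field F] [Fintype F] {q : ℕ} {τ : F →+* F}

local notation "M3" => Matrix (Fin 3) (Fin 3) F

theorem cube_root [CharP F 3] (μ : F) : ∃ c : F, c ^ 3 = μ := by
  obtain ⟨c, hc⟩ := (bijective_frobenius F 3).2 μ
  exact ⟨c, hc⟩

omit [Fintype F] in
theorem eq_one_of_cube [CharP F 3] {c : F} (h : c ^ 3 = 1) : c = 1 := by
  have : (c - 1) ^ 3 = 0 := by rw [sub_pow_char, h, one_pow, sub_self]
  exact sub_eq_zero.1 ((pow_eq_zero_iff (by norm_num)).1 this)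

theorem su_of_unitary (hτ : ∀ x, τ x = x ^ q) (hτ2 : ∀ x, τ (τ x) = x) {A : M3} (hd : A.det = 1)
    (hA : conjT τ A * A = 1) : ∃ g : Cfsg.SU 3 F q, g.1.1 = A := by
  refine ⟨⟨⟨A, hd⟩, mem_SU_iff.2 fun u v => ?_⟩, rfl⟩
  show Cfsg.hermForm 3 F q (A *ᵥ u) (A *ᵥ v) = _
  rw [← conjT_conjT hτ2 A, herm_adj hτ, conjT_conjT hτ2, Matrix.mulVec_mulVec, hA, Matrix.one_mulVec]

theorem unitary_of_su (hτ : ∀ x, τ x = x ^ q) (g : Cfsg.SU 3 F q) : conjT τ g.1.1 * g.1.1 = 1 := by
  have h := congrArg Matrix.transpose (gu_transpose_mul τ hτ ⟨g.1.toGL, mem_SU_iff_toGL.1 g.2⟩)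
  rw [Matrix.transpose_mul, Matrix.transpose_transpose, Matrix.transpose_one] at h
  exact h

/-- Elements of `SU_3` similar in `GL_3` are conjugate: cubing is bijective on norm-one scalars. -/
theorem exists_su_conj [CharP F 3] (hτ : ∀ x, τ x = x ^ q) (hne : τ ≠ RingHom.id F)
    (hτ2 : ∀ x, τ (τ x) = x) {A B : M3} (hA : conjT τ A * A = 1) (hB : conjT τ B * B = 1) {T : M3}
    (hT : T.det ≠ 0) (h : T * A = B * T) :
    ∃ x : Cfsg.SU 3 F q, x.1.1 * A = B * x.1.1 := by
  obtain ⟨Q, hQ, hQA⟩ := exists_unitary_conj hne hτ2 hA hB (isUnit_iff_ne_zero.2 hT) h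
  have hdet : τ Q.det * Q.det = 1 := by rw [← det_conjT, ← Matrix.det_mul, hQ, Matrix.det_one]
  obtain ⟨c, hc⟩ := cube_root (Q.det)⁻¹
  have hcn : τ c * c = 1 := eq_one_of_cube (by
    rw [mul_pow, ← map_pow, hc, map_inv₀, ← mul_inv, hdet, inv_one])
  obtain ⟨x, hx⟩ := su_of_unitary (A := c • Q) hτ hτ2
    (by rw [Matrix.det_smul, Fintype.card_fin, hc, inv_mul_cancel₀ (right_ne_zero_of_mul_eq_one hdet)])
    (by rw [conjT, Matrix.map_smul' (⇑τ) (r := c) (A := Q) (map_mul τ), Matrix.transpose_smul, Matrix.smul_mul,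
      Matrix.mul_smul, smul_smul, hcn, one_smul]; exact hQ)
  refine ⟨x, ?_⟩
  rw [hx, Matrix.smul_mul, Matrix.mul_smul, hQA]

omit [Fintype F] in
/-- Regular unipotent matrices are similar. -/
theorem regular_similar {N N' : M3} (h3 : N * N * N = 0) (h2 : N * N ≠ 0) (h3' : N' * N' * N' = 0)
    (h2' : N' * N' ≠ 0) : ∃ T : M3, T.det ≠ 0 ∧ T * (1 + N) = (1 + N') * T := by
  have key : ∀ {N : M3}, N * N * N = 0 → N * N ≠ 0 →
      ∃ S : M3, IsUnit S.det ∧ N * S = S * !![0, 1, 0; 0, 0, 1; 0, 0, 0] := by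
    intro N h3 h2
    obtain ⟨w, hw⟩ : ∃ w, (N * N) *ᵥ w ≠ 0 := by
      by_contra hc
      push Not at hc
      exact h2 (Matrix.ext_of_mulVec_single fun i => by rw [hc, Matrix.zero_mulVec])
    let col : Fin 3 → Fin 3 → F := ![(N * N) *ᵥ w, N *ᵥ w, w]
    let S : M3 := Matrix.of fun i j => col j i
    have hN : ∀ x : Fin 3 → F, N *ᵥ (N *ᵥ (N *ᵥ x)) = 0 := fun x => by
      rw [Matrix.mulVec_mulVec, Matrix.mulVec_mulVec, h3, Matrix.zero_mulVec]
    refine ⟨S, ?_, ?_⟩
    · rw [← Matrix.isUnit_iff_isUnit_det, ← Matrix.mulVec_injective_iff_isUnit]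
      show Function.Injective (Matrix.mulVecLin S)
      rw [injective_iff_map_eq_zero]
      intro x hx
      have hsum : x 0 • ((N * N) *ᵥ w) + x 1 • (N *ᵥ w) + x 2 • w = 0 := by
        rw [← hx]
        funext i
        simp [S, col, Matrix.mulVec, dotProduct, Fin.sum_univ_three, mul_comm]
      have e2 := congrArg (fun y => N *ᵥ (N *ᵥ y)) hsum
      simp only [Matrix.mulVec_add, Matrix.mulVec_smul, ← Matrix.mulVec_mulVec, hN, Matrix.mulVec_zero, smul_zero,
        zero_add] at e2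
      have hx2 : x 2 = 0 := (smul_eq_zero.1 e2).resolve_right (by rw [Matrix.mulVec_mulVec]; exact hw)
      have e1 := congrArg (fun y => N *ᵥ y) hsum
      simp only [hx2, zero_smul, add_zero, Matrix.mulVec_add, Matrix.mulVec_smul, ← Matrix.mulVec_mulVec, hN,
        Matrix.mulVec_zero, smul_zero, zero_add] at e1
      have hx1 : x 1 = 0 := (smul_eq_zero.1 e1).resolve_right (by rw [Matrix.mulVec_mulVec]; exact hw)
      simp only [hx2, hx1, zero_smul, add_zero] at hsum
      have hx0 : x 0 = 0 := (smul_eq_zero.1 hsum).resolve_right hw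
      funext i
      fin_cases i <;> assumption
    · refine Matrix.ext_of_mulVec_single fun j => ?_
      rw [← Matrix.mulVec_mulVec, ← Matrix.mulVec_mulVec]
      have hS : ∀ k, S *ᵥ Pi.single k 1 = col k := fun k => by
        rw [Matrix.mulVec_single_one]; rfl
      have e0 : !![0, 1, 0; 0, 0, 1; 0, 0, (0 : F)] *ᵥ Pi.single 0 1 = 0 := by
        funext i; fin_cases i <;> simp
      have e1 : !![0, 1, 0; 0, 0, 1; 0, 0, (0 : F)] *ᵥ Pi.single 1 1 = Pi.single 0 1 := by
        funext i; fin_cases i <;> simp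
      have e2 : !![0, 1, 0; 0, 0, 1; 0, 0, (0 : F)] *ᵥ Pi.single 2 1 = Pi.single 1 1 := by
        funext i; fin_cases i <;> simp
      fin_cases j
      · show N *ᵥ (S *ᵥ Pi.single 0 1) = S *ᵥ (_ *ᵥ Pi.single 0 1)
        rw [e0, hS, Matrix.mulVec_zero]
        show N *ᵥ ((N * N) *ᵥ w) = 0
        rw [← Matrix.mulVec_mulVec, hN]
      · show N *ᵥ (S *ᵥ Pi.single 1 1) = S *ᵥ (_ *ᵥ Pi.single 1 1)
        rw [e1, hS, hS]
        show N *ᵥ (N *ᵥ w) = (N * N) *ᵥ w
        rw [Matrix.mulVec_mulVec]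
      · show N *ᵥ (S *ᵥ Pi.single 2 1) = S *ᵥ (_ *ᵥ Pi.single 2 1)
        rw [e2, hS, hS]
        rfl
  obtain ⟨S, hS, hSN⟩ := key h3 h2
  obtain ⟨S', hS', hSN'⟩ := key h3' h2'
  refine ⟨S' * S⁻¹, ?_, ?_⟩
  · rw [Matrix.det_mul, Matrix.det_nonsing_inv, Ring.inverse_eq_inv']
    exact mul_ne_zero hS'.ne_zero (inv_ne_zero hS.ne_zero)
  · have hJ : S⁻¹ * N = !![0, 1, 0; 0, 0, 1; 0, 0, 0] * S⁻¹ := by
      calc S⁻¹ * N = S⁻¹ * (N * S) * S⁻¹ := by
            rw [mul_assoc, mul_assoc, Matrix.mul_nonsing_inv _ hS, mul_one]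
        _ = _ := by rw [hSN, ← mul_assoc, Matrix.nonsing_inv_mul _ hS, one_mul]
    rw [mul_add, add_mul, mul_one, one_mul, mul_assoc S', hJ, ← mul_assoc S', ← hSN', mul_assoc]

theorem pow_qcube (hF : Fintype.card F = q ^ 2) (x : F) : x ^ q ^ 3 = x ^ q := by
  rw [show q ^ 3 = q ^ 2 * q by ring, ← hF, pow_mul, FiniteField.pow_card]

/-- A cubic with a root of order dividing `q^3 + 1` is conjugate-reciprocal. -/
theorem conjRev_eq_of_root (hF : Fintype.card F = q ^ 2) (hτ : ∀ x, τ x = x ^ q) (hτ2 : ∀ x, τ (τ x) = x)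
    {E : Type*} [Field E] [Algebra F E] {f : F[X]} (hf : Irreducible f) (hm : f.Monic) (h0 : f.coeff 0 ≠ 0)
    {r : E} (hr : aeval r f = 0) (hord : r ^ (q ^ 3 + 1) = 1) : conjRev τ f = f := by
  obtain ⟨ℓ, hℓ⟩ := CharP.exists F
  have : Fact ℓ.Prime := ⟨CharP.char_is_prime F ℓ⟩
  have : CharP E ℓ := charP_of_injective_algebraMap (algebraMap F E).injective ℓ
  obtain ⟨k, hkp, hk⟩ := FiniteField.card F ℓ
  obtain ⟨e, -, he⟩ := (Nat.dvd_prime_pow hkp).1
    (show q ∣ ℓ ^ (k : ℕ) from hk ▸ hF ▸ dvd_pow_self q two_ne_zero)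
  have hr0 : r ≠ 0 := fun h => by simp [h] at hord
  have hinv : r⁻¹ = r ^ q ^ 3 := by
    rw [pow_succ'] at hord
    exact inv_eq_of_mul_eq_one_right hord
  have h1 : aeval r⁻¹ (f.map τ) = 0 := by
    have h := congrArg (iterateFrobenius E ℓ (e * 3)) hr
    rw [map_zero, aeval_def, hom_eval₂, iterateFrobenius_def] at h
    rw [show (iterateFrobenius E ℓ (e * 3)).comp (algebraMap F E) = (algebraMap F E).comp τ from
      RingHom.ext fun x => by
        rw [RingHom.comp_apply, RingHom.comp_apply, iterateFrobenius_def, ← map_pow, pow_mul ℓ, ← he,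
          pow_qcube hF, hτ], pow_mul ℓ, ← he, ← hinv, ← eval₂_map] at h
    exact h
  let : Invertible r⁻¹ := invertibleOfNonzero (inv_ne_zero hr0)
  have h2' : aeval r (f.map τ).reverse = 0 := by
    rw [aeval_def, show r = ⅟(r⁻¹) by rw [invOf_eq_inv, inv_inv]]
    exact (eval₂_reverse_eq_zero_iff (algebraMap F E) r⁻¹ _).2 h1
  have h2 : aeval r (conjRev τ f) = 0 := by rw [conjRev, map_mul, h2', mul_zero]
  exact (minpoly.eq_of_irreducible_of_monic (irreducible_conjRev hτ2 hm h0 hf) h2 (monic_conjRev h0)).trans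
    (minpoly.eq_of_irreducible_of_monic hf hr hm).symm

/-- An irreducible cubic of determinant one fixed by the conjugate reciprocal. -/
theorem exists_fixed_cubic [CharP F 3] (hF : Fintype.card F = q ^ 2) (hτ : ∀ x, τ x = x ^ q)
    (hτ2 : ∀ x, τ (τ x) = x) : ∃ f : F[X], f.Monic ∧ Irreducible f ∧ f.natDegree = 3 ∧
      f.coeff 0 = -1 ∧ conjRev τ f = f := by
  classical
  have hq := herm_two_le hF
  have : Fact (Nat.Prime 3) := ⟨Nat.prime_three⟩
  let E := FiniteField.Extension F 3 3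
  have hrank : Module.finrank F E = 3 := FiniteField.finrank_extension ..
  have : Finite E := Module.finite_of_finite F
  let : Fintype E := Fintype.ofFinite E
  have hE : Fintype.card E = q ^ 6 := by
    rw [Module.card_eq_pow_finrank (K := F), hrank, hF, ← pow_mul]
  obtain ⟨g, hg⟩ := IsCyclic.exists_generator (α := Eˣ)
  have hord : orderOf g = q ^ 6 - 1 := by
    rw [orderOf_eq_card_of_forall_mem_zpowers hg, Nat.card_units, Nat.card_eq_fintype_card, hE]
  set r : Eˣ := g ^ (q ^ 3 - 1) with hr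
  have hmul : (q ^ 3 - 1) * (q ^ 3 + 1) = q ^ 6 - 1 := by
    rw [mul_comm, ← Nat.sq_sub_sq, one_pow, ← pow_mul]
  have hr1 : r ^ (q ^ 3 + 1) = 1 := by rw [hr, ← pow_mul, hmul, ← hord, pow_orderOf_eq_one]
  have hr1' : (r : E) ^ (q ^ 3 + 1) = 1 := by rw [← Units.val_pow_eq_pow_val, hr1, Units.val_one]
  have hrF : (r : E) ∉ (algebraMap F E).range := by
    rintro ⟨x, hx⟩
    have hx0 : x ≠ 0 := fun h => r.ne_zero (by rw [← hx, h, map_zero])
    have h1 : r ^ (q ^ 2 - 1) = 1 := Units.ext (by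
      rw [Units.val_pow_eq_pow_val, ← hx, ← map_pow, ← hF, FiniteField.pow_card_sub_one_eq_one x hx0, map_one,
        Units.val_one])
    rw [hr, ← pow_mul] at h1
    have h2 := Nat.le_of_dvd (by
      have : 0 < q ^ 3 - 1 := by
        have : 2 ^ 3 ≤ q ^ 3 := Nat.pow_le_pow_left hq 3
        omega
      have : 0 < q ^ 2 - 1 := by
        have : 2 ^ 2 ≤ q ^ 2 := Nat.pow_le_pow_left hq 2
        omega
      positivity) (orderOf_dvd_of_pow_eq_one h1)
    rw [hord, ← hmul] at h2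
    have h3 := Nat.le_of_mul_le_mul_left h2 (by
      have : 2 ^ 3 ≤ q ^ 3 := Nat.pow_le_pow_left hq 3
      omega)
    have h4 : q ^ 2 ≤ q ^ 3 := Nat.pow_le_pow_right (by omega) (by norm_num)
    omega
  have hint : IsIntegral F (r : E) := IsIntegral.of_finite F _
  set f := minpoly F (r : E) with hf
  have hfd : f.natDegree = 3 := by
    have := minpoly.degree_dvd (K := F) hint
    rw [hrank, ← hf] at this
    rcases (Nat.dvd_prime Nat.prime_three).1 this with h | h
    · exact absurd (minpoly.natDegree_eq_one_iff.1 h) hrF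
    · exact h
  have hfi : Irreducible f := minpoly.irreducible hint
  have hfm : f.Monic := minpoly.monic hint
  have hf0 : f.coeff 0 ≠ 0 := coeff_zero_ne_zero hfi hfm (by omega)
  have hfix : conjRev τ f = f := conjRev_eq_of_root hF hτ hτ2 hfi hfm hf0 (minpoly.aeval F (r : E)) hr1'
  obtain ⟨c, hc⟩ := cube_root (-(f.coeff 0)⁻¹)
  have hcn : c ^ (q + 1) = 1 := eq_one_of_cube (by
    have h1 := (fixed_relation hfm hfix).1
    have h2 : τ (f.coeff 0) = (f.coeff 0)⁻¹ := by
      nth_rw 2 [← h1]; rw [inv_inv]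
    rw [← pow_mul, mul_comm, pow_mul, hc, pow_succ, ← hτ, map_neg, map_inv₀, h2, inv_inv, neg_mul_neg,
      mul_inv_cancel₀ hf0])
  have hc0 : c ≠ 0 := fun h => by simp [h] at hcn
  set f' := f.scaleRoots c with hf'
  have hm' : f'.Monic := (monic_scaleRoots_iff c).2 hfm
  have hd' : f'.natDegree = 3 := by rw [hf', natDegree_scaleRoots, hfd]
  have h0' : f'.coeff 0 = -1 := by
    rw [hf', coeff_scaleRoots, hfd, Nat.sub_zero, hc, mul_neg, mul_inv_cancel₀ hf0]
  have hi' : Irreducible f' := by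
    rw [hm'.irreducible_iff_roots_eq_zero_of_degree_le_three (by omega) (by omega)]
    refine Multiset.eq_zero_of_forall_notMem fun e he => ?_
    have h1 : f'.eval e = 0 := isRoot_of_mem_roots he
    rw [hf', show e = c * (c⁻¹ * e) by rw [mul_inv_cancel_left₀ hc0], scaleRoots_eval_mul] at h1
    have h2 := (mul_eq_zero.1 h1).resolve_left (pow_ne_zero _ hc0)
    have := natDegree_eq_of_degree_eq_some (degree_eq_one_of_irreducible_of_root hfi h2)
    rw [hfd] at this
    exact absurd this (by norm_num)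
  refine ⟨f', hm', hi', hd', h0', conjRev_eq_of_root hF hτ hτ2 hi' hm' (by rw [h0']; simp)
    (r := algebraMap F E c * (r : E)) (scaleRoots_aeval_eq_zero (minpoly.aeval F (r : E))) ?_⟩
  rw [mul_pow, hr1', mul_one, ← map_pow, pow_succ, pow_qcube hF, ← pow_succ, hcn, map_one]

/-- The normaliser of the field `F[θ]`. -/
def fieldNormalizer (θ : M3) (Q : ℕ) (hper : θ ^ Q ^ 3 = θ) : Subgroup (Cfsg.SU 3 F q) where
  carrier := {g | ∃ i : ℕ, g.1.1 * θ = θ ^ Q ^ i * g.1.1}
  one_mem' := ⟨0, by simp⟩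
  mul_mem' := by
    rintro a b ⟨i, hi⟩ ⟨j, hj⟩
    refine ⟨i + j, ?_⟩
    show a.1.1 * b.1.1 * θ = θ ^ Q ^ (i + j) * (a.1.1 * b.1.1)
    have h : a.1.1 * θ ^ Q ^ j = (θ ^ Q ^ i) ^ Q ^ j * a.1.1 := SemiconjBy.pow_right hi _
    rw [mul_assoc, hj, ← mul_assoc, h, ← pow_mul, ← pow_add, mul_assoc]
  inv_mem' := by
    rintro a ⟨i, hi⟩
    refine ⟨2 * i, ?_⟩
    have h : a.1.1 * θ ^ Q ^ (2 * i) = (θ ^ Q ^ i) ^ Q ^ (2 * i) * a.1.1 := SemiconjBy.pow_right hi _
    have hperi : ∀ j, θ ^ Q ^ (3 * j) = θ := fun j => by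
      induction j with
      | zero => simp
      | succ j ih => rw [Nat.mul_succ, pow_add, pow_mul, ih, hper]
    rw [← pow_mul, ← pow_add, show i + 2 * i = 3 * i by ring, hperi] at h
    have h1 : a⁻¹.1.1 * a.1.1 = 1 := congrArg (fun x : Cfsg.SU 3 F q => x.1.1) (inv_mul_cancel a)
    have h2 : a.1.1 * a⁻¹.1.1 = 1 := congrArg (fun x : Cfsg.SU 3 F q => x.1.1) (mul_inv_cancel a)
    calc a⁻¹.1.1 * θ = a⁻¹.1.1 * (θ * a.1.1) * a⁻¹.1.1 := by rw [mul_assoc, mul_assoc θ, h2, mul_one]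
      _ = _ := by rw [← h, ← mul_assoc, h1, one_mul]

theorem no_ti_plane (hF : Fintype.card F = q ^ 2) {x y : Fin 3 → F} (hx : x ≠ 0) (hy : ∀ a : F, a • x ≠ y)
    (hxx : Cfsg.hermForm 3 F q x x = 0) (hxy : Cfsg.hermForm 3 F q x y = 0) :
    Cfsg.hermForm 3 F q y y ≠ 0 := by
  intro hyy
  obtain ⟨τ, hτ, hne, h2⟩ := exists_conj hF
  have hB := CfsgLib.Unitary.hform_herm (n := 3) hF hτ hne h2
  obtain ⟨-, hti⟩ := span_pair_ti hF hx hy hxx hxy hyy
  have hmem : ∀ i, ![x, y] i ∈ Submodule.span F {x, y} := fun i => by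
    refine Submodule.subset_span ?_; fin_cases i <;> simp
  have hxx' : ∀ i j, hermSesq 3 τ (![x, y] i) (![x, y] j) = 0 := fun i j => by
    rw [hermSesq_apply τ hτ]; exact hti _ (hmem j) _ (hmem i)
  obtain ⟨⟨z, hz1, hz2⟩⟩ := CfsgLib.Unitary.exists_comp hB ((LinearIndependent.pair_iff' hx).2 hy) hxx' hF
  obtain ⟨U, -, hU, -⟩ := CfsgLib.Unitary.finrank_frame_orth hB hxx' hz1 hz2
  rw [Module.finrank_fin_fun] at hU
  omega

/-- An element fixing an isotropic point and no other point is regular unipotent. -/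
theorem regular_of_eigvec [CharP F 3] (hF : Fintype.card F = q ^ 2) (hτ : ∀ x, τ x = x ^ q)
    {A : M3} (hd : A.det = 1)
    (hiso : ∀ u v, Cfsg.hermForm 3 F q (A *ᵥ u) (A *ᵥ v) = Cfsg.hermForm 3 F q u v)
    {v : Fin 3 → F} {c : F} (hv0 : v ≠ 0) (hv : A *ᵥ v = c • v)
    (hall : ∀ (u : Fin 3 → F) (e : F), A *ᵥ u = e • u → Cfsg.hermForm 3 F q u u = 0) :
    (A - 1) * (A - 1) * (A - 1) = 0 ∧ (A - 1) * (A - 1) ≠ 0 := by
  classical
  have hq : q ≠ 0 := by have := herm_two_le hF; omega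
  have hvv := hall v c hv
  let f : (Fin 3 → F) →ₗ[F] F := hermSesq 3 τ v
  have hf : ∀ u, f u = Cfsg.hermForm 3 F q u v := fun u => hermSesq_apply τ hτ v u
  set P := LinearMap.ker f with hPdef
  have hP : ∀ u, u ∈ P ↔ Cfsg.hermForm 3 F q u v = 0 := fun u => by rw [hPdef, LinearMap.mem_ker, hf]
  have hf0 : f ≠ 0 := fun h => hv0 (hermSesq_separatingLeft τ v fun u => LinearMap.congr_fun h u)
  have hPd : Module.finrank F P = 2 := by
    have h1 := LinearMap.finrank_range_add_finrank_ker f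
    rw [LinearMap.range_eq_top.2 (LinearMap.surjective hf0), finrank_top, Module.finrank_self,
      Module.finrank_fin_fun] at h1
    show Module.finrank F (LinearMap.ker f) = 2
    omega
  obtain ⟨w, hw⟩ := LinearMap.surjective hf0 1
  rw [hf] at hw
  obtain ⟨u, huP, hu⟩ : ∃ u ∈ P, ∀ a : F, a • v ≠ u := by
    by_contra hc
    push Not at hc
    have := (Submodule.finrank_mono (show P ≤ Submodule.span F {v} from fun u hu =>
      Submodule.mem_span_singleton.2 (hc u hu))).trans (finrank_span_singleton hv0).le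
    omega
  have huv := (hP u).1 huP
  have hvu : Cfsg.hermForm 3 F q v u = 0 := by rw [hermForm_symm hF 3 u v, huv, zero_pow hq]
  have huu := no_ti_plane hF hv0 hu hvv hvu
  have hspan : ∀ x ∈ P, ∃ a b : F, a • v + b • u = x := fun x hx => by
    have hle : Submodule.span F {v, u} ≤ P := Submodule.span_le.2 (by
      rintro y (rfl | rfl)
      · exact (hP _).2 hvv
      · exact huP)
    have heq : Submodule.span F {v, u} = P := Submodule.eq_of_le_of_finrank_eq hle (by
      have := finrank_span_eq_card (R := F) ((LinearIndependent.pair_iff' hv0).2 hu)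
      rw [Matrix.range_cons_cons_empty, Fintype.card_fin] at this
      omega)
    exact Submodule.mem_span_pair.1 (heq.symm ▸ hx)
  have hc0 : c ≠ 0 := fun h => by
    have h1 := hiso w v
    rw [hv, h, hermForm_smul_right, zero_pow hq, zero_mul, hw] at h1
    exact zero_ne_one h1
  have hinv : ∀ x ∈ P, A *ᵥ x ∈ P := fun x hx => by
    rw [hP] at hx ⊢
    have := hiso x v
    rw [hv, hermForm_smul_right, hx] at this
    exact (mul_eq_zero.1 this).resolve_left (pow_ne_zero _ hc0)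
  obtain ⟨a, μ, hAu⟩ := hspan _ (hinv u huP)
  have hμ : μ = c := by
    by_contra hne
    have hk : μ - c ≠ 0 := sub_ne_zero.2 hne
    have := hall (u + (a / (μ - c)) • v) μ (by
      rw [Matrix.mulVec_add, Matrix.mulVec_smul, hv, ← hAu, smul_add, smul_smul, smul_smul,
        show a / (μ - c) * c = μ * (a / (μ - c)) - a by field_simp; ring, sub_smul]
      abel)
    simp only [← hermSesq_apply τ hτ, map_add, map_smulₛₗ, LinearMap.add_apply, LinearMap.smul_apply,
      smul_eq_mul, RingHom.id_apply] at this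
    simp only [hermSesq_apply τ hτ, huv, hvu, hvv, mul_zero, add_zero] at this
    exact huu this
  subst hμ
  have e1 := hiso u u
  rw [← hAu] at e1
  simp only [← hermSesq_apply τ hτ, map_add, map_smulₛₗ, LinearMap.add_apply, LinearMap.smul_apply,
    smul_eq_mul, RingHom.id_apply] at e1
  simp only [hermSesq_apply τ hτ, huv, hvu, hvv, mul_zero, add_zero, zero_add] at e1
  have hnorm : μ * τ μ = 1 := mul_right_cancel₀ huu (by linear_combination e1)
  have hwm : A *ᵥ w - μ • w ∈ P := by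
    rw [hP, hermForm_sub_left, hermForm_smul_left, hw]
    have h1 := hiso w v
    rw [hv, hermForm_smul_right, hw, ← hτ] at h1
    linear_combination μ * h1 - Cfsg.hermForm 3 F q (A *ᵥ w) v * hnorm
  obtain ⟨s, r, hAw⟩ := hspan _ hwm
  have hAw' : A *ᵥ w = μ • w + (s • v + r • u) := by rw [hAw]; abel
  set N : M3 := A - μ • 1 with hNdef
  have hN : ∀ x, N *ᵥ x = A *ᵥ x - μ • x := fun x => by
    rw [hNdef, Matrix.sub_mulVec, Matrix.smul_mulVec, Matrix.one_mulVec]
  have hNv : N *ᵥ v = 0 := by rw [hN, hv, sub_self]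
  have hNu : N *ᵥ u = a • v := by rw [hN, ← hAu]; abel
  have hNw : N *ᵥ w = s • v + r • u := by rw [hN, hAw']; abel
  have hN3 : N * N * N = 0 := Matrix.ext_of_mulVec_single fun i => by
    obtain ⟨x, hx⟩ : ∃ x, x = (Pi.single i 1 : Fin 3 → F) := ⟨_, rfl⟩
    obtain ⟨b, d, hbd⟩ := hspan (x - Cfsg.hermForm 3 F q x v • w) (by
      rw [hP, hermForm_sub_left, hermForm_smul_left, hw, mul_one, sub_self])
    rw [← hx, Matrix.zero_mulVec, show x = b • v + d • u + Cfsg.hermForm 3 F q x v • w by rw [hbd]; abel]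
    simp only [← Matrix.mulVec_mulVec, Matrix.mulVec_add, Matrix.mulVec_smul, hNv, hNu, hNw,
      Matrix.mulVec_zero, smul_zero, add_zero]
  have hμ1 : μ = 1 := by
    apply eq_one_of_cube
    apply eq_one_of_cube
    have h1 : A ^ 3 = μ ^ 3 • (1 : M3) := by
      have h2 : N ^ 3 = A ^ 3 - (μ • (1 : M3)) ^ 3 := by
        rw [hNdef, sub_pow_char_of_commute]
        exact (Commute.one_right A).smul_right μ
      rw [pow_succ, pow_two, hN3, _root_.smul_pow, one_pow] at h2
      exact sub_eq_zero.1 h2.symm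
    have := congrArg Matrix.det h1
    rw [Matrix.det_pow, hd, one_pow, Matrix.det_smul, Matrix.det_one, mul_one, Fintype.card_fin] at this
    exact this.symm
  subst hμ1
  rw [show N = A - 1 by rw [hNdef, one_smul]] at hN3 hNv hNu hNw
  refine ⟨hN3, fun h => ?_⟩
  have ha : a ≠ 0 := fun h0 => huu (hall u 1 (by rw [← hAu, h0, zero_smul, zero_add]))
  have e2 := hiso w u
  rw [← hAu, hAw'] at e2
  simp only [← hermSesq_apply τ hτ, map_add, map_smulₛₗ, LinearMap.add_apply, LinearMap.smul_apply,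
    smul_eq_mul, RingHom.id_apply, map_one, one_mul] at e2
  simp only [hermSesq_apply τ hτ, huv, hvu, hvv, hw, mul_zero, add_zero, zero_add, mul_one] at e2
  have h2 := congrArg (fun M => M *ᵥ w) h
  simp only [← Matrix.mulVec_mulVec, hNw, Matrix.mulVec_add, Matrix.mulVec_smul, hNv, hNu, smul_zero, zero_add,
    Matrix.zero_mulVec, smul_smul] at h2
  have hr : r = 0 := by
    rcases mul_eq_zero.1 ((smul_eq_zero.1 h2).resolve_right hv0) with h | h
    · exact h
    · exact absurd h ha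
  rw [hr, zero_mul, add_zero] at e2
  exact ha ((map_eq_zero τ).1 (by linear_combination e2))

omit [Fintype F] in
/-- A unipotent element inducing a nontrivial automorphism of a field is not quadratic. -/
theorem semilinear_unipotent [CharP F 3] {G θ θ1 θ2 : M3} (hGu : IsUnit G) (hN : (G - 1) * (G - 1) = 0)
    (h1 : G * θ = θ1 * G) (h1' : G * θ1 = θ2 * G) (c1 : Commute θ θ1) (c2 : Commute θ θ2) :
    (θ1 - θ2) * (θ1 - θ) = 0 := by
  have hG2 : G * G = G + G - 1 := by
    rw [← sub_eq_zero, ← hN]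
    noncomm_ring
  have h4 : G * G * θ = θ2 * (G * G) := by rw [mul_assoc, h1, ← mul_assoc, h1', mul_assoc]
  have h3 : (θ1 - θ2) * G + (θ1 - θ2) * G = θ - θ2 := by
    rw [hG2] at h4
    simp only [add_mul, sub_mul, mul_add, mul_sub, h1, one_mul, mul_one] at h4 ⊢
    rw [← sub_eq_zero] at h4 ⊢
    rw [← h4]
    abel
  have h7 : θ * (θ - θ2) = (θ - θ2) * θ := by rw [mul_sub, sub_mul, c2.eq]
  have h9 : θ * (θ1 - θ2) = (θ1 - θ2) * θ := by rw [mul_sub, sub_mul, c1.eq, c2.eq]
  rw [← h3, mul_add, add_mul, ← mul_assoc, h9, mul_assoc, mul_assoc (θ1 - θ2) G θ, h1] at h7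
  have h8 : (2 : F) • ((θ1 - θ2) * (θ * G)) = (2 : F) • ((θ1 - θ2) * (θ1 * G)) := by
    rw [two_smul, two_smul]; exact h7
  have h5 := smul_right_injective M3 (Ring.two_ne_zero (by rw [ringChar.eq F 3]; norm_num)) h8
  have h6 : (θ1 - θ2) * (θ1 - θ) * G = 0 := by rw [mul_assoc, sub_mul θ1 θ G, mul_sub, h5, sub_self]
  exact hGu.mul_left_eq_zero.1 h6

set_option maxHeartbeats 1000000 in
/-- `PSU_3(q)`, `q` a power of `3`. -/
theorem psu_three (hF : Fintype.card F = q ^ 2) {a : ℕ} (hqa : q = 3 ^ a) :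
    TwoCovered (Cfsg.PSU 3 F q) := by
  classical
  have : Fact (Nat.Prime 3) := ⟨Nat.prime_three⟩
  have : CharP F 3 := by
    refine charP_of_card_eq_prime_pow (f := a * 2) ?_
    rw [hF, hqa, ← pow_mul]
  obtain ⟨τ, hτ, hne, hτ2⟩ := exists_conj hF
  obtain ⟨f, hfm, hfi, hfd, hf0, hfix⟩ := exists_fixed_cubic hF hτ hτ2
  obtain ⟨θ', hθf⟩ := exists_su_charpoly hF hτ hne hτ2 (n := 3) (by norm_num) hfm hfd (by rw [hf0]; norm_num) hfix
  set θ := θ'.1.1 with hθdef
  have hθu : conjT τ θ * θ = 1 := unitary_of_su hτ θ'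
  have hθ0 : aeval θ f = 0 := by rw [← hθf]; exact Matrix.aeval_self_charpoly θ
  have hh0 : f.coeff 0 ≠ 0 := by rw [hf0]; exact neg_ne_zero.2 one_ne_zero
  have hθord : θ ^ (q ^ 3 + 1) = 1 := by
    have h1 := fixed_cubic_dvd hF hτ hτ2 hfi hfm hh0 hfd hfix
    have h2 := aeval_eq_zero_of_dvd_aeval_eq_zero h1 hθ0
    simpa [sub_eq_zero] using h2
  have hθstar : conjT τ θ = θ ^ q ^ 3 := by
    calc conjT τ θ = conjT τ θ * (θ * θ ^ q ^ 3) := by rw [← pow_succ', hθord, mul_one]
      _ = _ := by rw [← mul_assoc, hθu, one_mul]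
  obtain ⟨Q, hQdef⟩ : ∃ Q : ℕ, Q = q ^ 2 := ⟨_, rfl⟩
  have hper : θ ^ Q ^ 3 = θ := by
    rw [show Q ^ 3 = (q ^ 3 + 1) * (q ^ 3 - 1) + 1 by
      have : 1 ≤ q ^ 3 := Nat.one_le_pow _ _ (by have := herm_two_le hF; omega)
      rw [← Nat.sq_sub_sq, one_pow, Nat.sub_add_cancel (Nat.one_le_pow _ _ (by omega)), hQdef, ← pow_mul,
        ← pow_mul],
      pow_succ, pow_mul, hθord, one_pow, one_mul]
  have hnofix : θ ^ Q ≠ θ := fun h => by
    have h1 : aeval θ (X ^ Q - X : F[X]) = 0 := by simp [h]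
    have h2 : f ∣ X ^ Q - X := by
      have hmin : minpoly F θ = f := (minpoly.unique_of_degree_le_degree_minpoly F θ hfm hθ0
        (degree_le_of_dvd (hfi.dvd_iff.1 (minpoly.dvd F θ hθ0) |>.resolve_left
          (minpoly.not_isUnit F θ) |>.dvd) (minpoly.ne_zero (Matrix.isIntegral θ)))).symm
      rw [← hmin]; exact minpoly.dvd F θ h1
    have h3 : (X ^ Q - X : F[X]) = ∏ x : F, (X - C x) := by
      rw [hQdef, ← hF]
      have hmon : (X ^ Fintype.card F - X : F[X]).Monic :=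
        monic_X_pow_sub (degree_X_le.trans_lt (by exact_mod_cast Fintype.one_lt_card))
      refine ((prod_multiset_X_sub_C_of_monic_of_roots_card_eq hmon ?_).symm).trans ?_
      · rw [FiniteField.roots_X_pow_card_sub_X, FiniteField.X_pow_card_sub_X_natDegree_eq F Fintype.one_lt_card]
        rfl
      · rw [FiniteField.roots_X_pow_card_sub_X]; rfl
    rw [h3] at h2
    obtain ⟨x, -, hx⟩ := (hfi.prime.dvd_finsetProd_iff _).1 h2
    have h4 := natDegree_le_of_dvd hx (X_sub_C_ne_zero x)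
    rw [natDegree_X_sub_C, hfd] at h4
    omega
  let K := fieldNormalizer (q := q) θ Q hper
  let L₀ : Submodule F (Fin 3 → F) := Submodule.span F {Pi.single 0 1}
  have hfield : ∀ P R : F[X], aeval θ P * aeval θ R = 0 → aeval θ P = 0 ∨ aeval θ R = 0 := fun P R h => by
    have hdvd : ∀ S : F[X], aeval θ S = 0 → f ∣ S := fun S hS => by
      have hmin := hfi.dvd_iff.1 (minpoly.dvd F θ hθ0) |>.resolve_left (minpoly.not_isUnit F θ)
      exact hmin.dvd.trans (minpoly.dvd F θ hS)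
    rw [← map_mul] at h
    rcases hfi.prime.dvd_or_dvd (hdvd _ h) with h | h
    · exact Or.inl (aeval_eq_zero_of_dvd_aeval_eq_zero h hθ0)
    · exact Or.inr (aeval_eq_zero_of_dvd_aeval_eq_zero h hθ0)
  -- a regular unipotent element of the normaliser
  obtain ⟨γ, hγK, hγ3, hγ2⟩ : ∃ γ : Cfsg.SU 3 F q, γ ∈ K ∧
      (γ.1.1 - 1) * (γ.1.1 - 1) * (γ.1.1 - 1) = 0 ∧ (γ.1.1 - 1) * (γ.1.1 - 1) ≠ 0 := by
    have hθQ : aeval (θ ^ Q) f = 0 := by
      have h1 : aeval θ (f.comp (X ^ Q)) = 0 := by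
        rw [hQdef, ← hF, ← comp_pow_card, comp_X, map_pow, hθ0, zero_pow Fintype.card_ne_zero]
      rwa [aeval_comp, map_pow, aeval_X] at h1
    obtain ⟨T, hT⟩ := exists_sl_conj hfi hfm hh0 (by norm_num) hθ0 hθQ
    have hu2 : conjT τ (θ ^ Q) * θ ^ Q = 1 := by
      have : ∀ k : ℕ, conjT τ (θ ^ k) * θ ^ k = 1 := fun k => by
        induction k with
        | zero => rw [pow_zero, conjT_one, one_mul]
        | succ k ih =>
          conv_lhs => arg 2; rw [pow_succ]
          rw [pow_succ, conjT_mul, mul_assoc, ← mul_assoc (conjT τ (θ ^ k)), ih, one_mul, hθu]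
      exact this Q
    obtain ⟨γ₀, hγ₀⟩ := exists_su_conj hτ hne hτ2 hθu hu2 (T := T.1) (by rw [T.2]; exact one_ne_zero) hT
    have hK₀ : γ₀ ∈ K := ⟨1, by rw [pow_one]; exact hγ₀⟩
    obtain ⟨k, t, ht, hkt⟩ := Nat.exists_eq_pow_mul_and_not_dvd (orderOf_pos γ₀).ne' 3 (by norm_num)
    set γ := γ₀ ^ t with hγdef
    have hpow : γ ^ 3 ^ k = 1 := by rw [hγdef, ← pow_mul, mul_comm, ← hkt, pow_orderOf_eq_one]
    have hval : ∀ n : ℕ, (γ₀ ^ n).1.1 = γ₀.1.1 ^ n := fun n => by
      induction n with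
      | zero => simp
      | succ n ih => rw [pow_succ, pow_succ, ← ih]; rfl
    have hsemi : ∀ n : ℕ, γ₀.1.1 ^ n * θ = θ ^ Q ^ n * γ₀.1.1 ^ n := fun n => by
      induction n with
      | zero => simp
      | succ n ih =>
        have h : γ₀.1.1 ^ n * θ ^ Q = (θ ^ Q ^ n) ^ Q * γ₀.1.1 ^ n := SemiconjBy.pow_right ih _
        rw [pow_succ, mul_assoc, hγ₀, ← mul_assoc, h, ← pow_mul, ← pow_succ, mul_assoc]
    set G := γ.1.1 with hGdef
    have hG : G = γ₀.1.1 ^ t := hval t
    set N := G - 1 with hNdef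
    have hN3 : N * N * N = 0 := by
      have hGk : G ^ 3 ^ k = 1 := by
        rw [hG, ← pow_mul, ← hval, mul_comm, ← hkt, pow_orderOf_eq_one]; rfl
      have hnil : IsNilpotent N := ⟨3 ^ k, by
        rw [hNdef, sub_pow_char_pow_of_commute _ _ (Commute.one_right G), hGk, one_pow, sub_self]⟩
      have h := (Matrix.isNilpotent_charpoly_sub_pow_of_isNilpotent hnil).eq_zero
      rw [Fintype.card_fin, sub_eq_zero] at h
      have h2 := Matrix.aeval_self_charpoly N
      rw [h, map_pow, aeval_X] at h2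
      rw [← h2, pow_succ, pow_two]
    refine ⟨γ, K.pow_mem hK₀ t, hN3, fun hN2 => ?_⟩
    obtain ⟨θ1, hθ1⟩ : ∃ θ1, θ1 = θ ^ Q ^ t := ⟨_, rfl⟩
    obtain ⟨θ2, hθ2⟩ : ∃ θ2, θ2 = θ1 ^ Q ^ t := ⟨_, rfl⟩
    have h1 : G * θ = θ1 * G := by rw [hG, hθ1]; exact hsemi t
    have h1' : G * θ1 = θ2 * G := by
      have h := SemiconjBy.pow_right (show SemiconjBy G θ θ1 from h1) (Q ^ t)
      rw [← hθ1, ← hθ2] at h
      exact h
    have hθ2' : θ2 = θ ^ (Q ^ t * Q ^ t) := by rw [hθ2, hθ1, ← pow_mul]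
    have hGu : IsUnit G := (Matrix.isUnit_iff_isUnit_det _).2 (by
      rw [hG, Matrix.det_pow, show γ₀.1.1.det = 1 from γ₀.1.2, one_pow]
      exact isUnit_one)
    have h10 : (θ1 - θ2) * (θ1 - θ) = 0 := semilinear_unipotent hGu hN2 h1 h1'
      (by rw [hθ1]; exact (Commute.refl θ).pow_right _) (by rw [hθ2']; exact (Commute.refl θ).pow_right _)
    have e1 : θ1 - θ2 = aeval θ (X ^ Q ^ t - X ^ (Q ^ t * Q ^ t) : F[X]) := by simp [hθ1, hθ2']
    have e2 : θ1 - θ = aeval θ (X ^ Q ^ t - X : F[X]) := by simp [hθ1]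
    rw [e1, e2] at h10
    have hperi : ∀ i, θ ^ Q ^ (3 * i) = θ := fun i => by
      induction i with
      | zero => simp
      | succ i ih => rw [Nat.mul_succ, pow_add, pow_mul, ih, hper]
    have hmod : ∀ i, θ ^ Q ^ i = θ ^ Q ^ (i % 3) := fun i => by
      conv_lhs => rw [← Nat.div_add_mod i 3, pow_add, pow_mul θ, hperi]
    have hne1 : θ1 ≠ θ := fun h => by
      rw [hθ1, hmod] at h
      rcases (by omega : t % 3 = 1 ∨ t % 3 = 2) with h' | h'
      · rw [h', pow_one] at h; exact hnofix h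
      · rw [h'] at h
        have h'' := congrArg (· ^ Q) h
        simp only [← pow_mul, ← pow_succ] at h''
        rw [hper] at h''
        exact hnofix h''.symm
    rcases hfield _ _ h10 with h | h
    · rw [← e1, sub_eq_zero] at h
      refine hne1 ?_
      have h' := congrArg (· ^ Q ^ (2 * t)) h
      simp only [hθ1, hθ2', ← pow_mul, ← pow_add] at h'
      rw [show t + 2 * t = 3 * t by ring, hperi, show t + t + 2 * t = t + 3 * t by ring, pow_add, mul_comm,
        pow_mul, hperi] at h'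
      exact hθ1.trans h'.symm
    · rw [← e2, sub_eq_zero] at h
      exact hne1 h
  have hscalar : Subgroup.center (Cfsg.SU 3 F q) ≤ K := by
    intro z hz
    have hs := center_SU_scalar hF ⟨z, hz⟩
    have he : z.1.1 = z.1.1 0 0 • (1 : M3) := Matrix.ext fun i j => by
      by_cases hij : i = j
      · subst hij; simpa using (hs i 0).2
      · simpa [Matrix.one_apply_ne hij] using (hs i j).1 hij
    exact ⟨0, by rw [pow_zero, pow_one, he, Matrix.smul_mul, Matrix.mul_smul, one_mul, mul_one]⟩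
  refine twoCovered_quotient (stabSU L₀ q) K (center_le_stabSU hF _) hscalar ?_ ?_ fun g => ?_
  · intro htop
    obtain ⟨x, c, hc, hx⟩ := exists_SU_to_line (n := 3) hF 0 (v := Pi.single 1 1)
      (by rw [← hermSesq_apply τ hτ, hermSesq_single, if_pos rfl]; exact one_ne_zero)
    have hmem : x ∈ stabSU L₀ q := htop.symm ▸ Subgroup.mem_top x
    have h1 := (hmem (Pi.single 0 1)).1 (Submodule.mem_span_singleton_self _)
    change x.1.1 *ᵥ Pi.single 0 1 ∈ L₀ at h1
    rw [hx, Submodule.mem_span_singleton] at h1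
    obtain ⟨b, hb⟩ := h1
    exact hc (by simpa using (congrFun hb 1).symm)
  · intro htop
    obtain ⟨l, hl, hl2⟩ := exists_norm_one_sq_ne hF
    have hl0 : l ≠ 0 := fun h => by simp [h] at hl
    let d : Fin 3 → F := ![l, l⁻¹, 1]
    obtain ⟨x, hx⟩ := su_of_unitary (A := diagonal d) hτ hτ2
      (by simp [d, det_diagonal, Fin.prod_univ_three, hl0])
      (by
        rw [conjT, Matrix.diagonal_map (map_zero τ), Matrix.diagonal_transpose, Matrix.diagonal_mul_diagonal,
          ← Matrix.diagonal_one]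
        congr 1
        funext i
        fin_cases i <;> simp [d, hτ, inv_pow, ← mul_inv, ← pow_succ, hl])
    obtain ⟨i, hi⟩ : x ∈ K := htop.symm ▸ Subgroup.mem_top x
    have hcube : x.1.1 ^ 3 * θ = θ * x.1.1 ^ 3 := by
      have h : ∀ n : ℕ, x.1.1 ^ n * θ = θ ^ Q ^ (n * i) * x.1.1 ^ n := fun n => by
        induction n with
        | zero => simp
        | succ n ih =>
          have h : x.1.1 ^ n * θ ^ Q ^ i = (θ ^ Q ^ (n * i)) ^ Q ^ i * x.1.1 ^ n := SemiconjBy.pow_right ih _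
          rw [pow_succ, mul_assoc, hi, ← mul_assoc, h, ← pow_mul, ← pow_add, Nat.succ_mul, mul_assoc]
      have hperi : ∀ j, θ ^ Q ^ (3 * j) = θ := fun j => by
        induction j with
        | zero => simp
        | succ j ih => rw [Nat.mul_succ, pow_add, pow_mul, ih, hper]
      rw [h 3, hperi]
    rw [hx, Matrix.diagonal_pow] at hcube
    have hdist : ∀ i j : Fin 3, i ≠ j → (d ^ 3) i ≠ (d ^ 3) j := by
      have h1 : l ≠ 1 := fun h => hl2 (by rw [h, one_mul])
      have h6 : (l * l) ^ 3 ≠ 1 := fun h => hl2 (eq_one_of_cube h)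
      have h3 : l ^ 3 ≠ 1 := fun h => h1 (eq_one_of_cube h)
      have h3' : l⁻¹ ^ 3 ≠ 1 := by rw [inv_pow]; exact fun h => h3 (inv_eq_one.1 h)
      have h33 : l ^ 3 ≠ l⁻¹ ^ 3 := fun h => h6 (by
        rw [mul_pow]; nth_rw 2 [h]; rw [← mul_pow, mul_inv_cancel₀ hl0, one_pow])
      intro i j hij
      fin_cases i <;> fin_cases j <;> simp_all [d, Ne.symm]
    have hoff : ∀ i j : Fin 3, i ≠ j → θ i j = 0 := fun i j hij => by
      have h := congrFun (congrFun hcube i) j
      rw [Matrix.diagonal_mul, Matrix.mul_diagonal, mul_comm (θ i j)] at h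
      by_contra hne0
      exact hdist i j hij (mul_right_cancel₀ hne0 h)
    have hroot : f.eval (θ 0 0) = 0 := by
      rw [← hθf, Matrix.eval_charpoly, Matrix.det_eq_zero_of_row_eq_zero 0]
      intro j
      by_cases hj : j = 0
      · subst hj; simp
      · simp [Ne.symm hj, hoff 0 j (Ne.symm hj)]
    have := natDegree_eq_of_degree_eq_some (degree_eq_one_of_irreducible_of_root hfi hroot)
    rw [hfd] at this
    exact absurd this (by norm_num)
  · set A := g.1.1 with hA
    have hAu := unitary_of_su hτ g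
    have hiso := mem_SU_iff.1 g.2
    by_cases hK : ∃ (v : Fin 3 → F) (c : F), A *ᵥ v = c • v ∧ Cfsg.hermForm 3 F q v v ≠ 0
    · obtain ⟨v, c, hv, hvv⟩ := hK
      have hv0 : v ≠ 0 := fun h => hvv (by simp [h, Cfsg.hermForm])
      obtain ⟨x, k, -, hx⟩ := exists_SU_to_line hF 0 hvv
      obtain ⟨y, hy⟩ := exists_conj_mem_stabSU (W := L₀) (W' := Submodule.span F {v})
        (by rw [finrank_span_singleton hv0, finrank_span_singleton
          (fun h => one_ne_zero (α := F) (by simpa using congrFun h 0))])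
        (x := x) (g := g) (fun u hu => by
          obtain ⟨b, rfl⟩ := Submodule.mem_span_singleton.1 hu
          rw [Matrix.mulVec_smul, hx, smul_smul]
          exact Submodule.smul_mem _ _ (Submodule.mem_span_singleton_self v))
        (fun u hu => by
          obtain ⟨b, rfl⟩ := Submodule.mem_span_singleton.1 hu
          rw [Matrix.mulVec_smul, hv, smul_smul]
          exact Submodule.smul_mem _ _ (Submodule.mem_span_singleton_self v))
      exact ⟨y, Or.inl hy⟩
    push Not at hK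
    have hfin : ∀ B : Cfsg.SU 3 F q, B ∈ K → ∀ T : M3, T.det ≠ 0 → T * A = B.1.1 * T →
        ∃ x : Cfsg.SU 3 F q, x * g * x⁻¹ ∈ K := fun B hB T hT h => by
      obtain ⟨x, hx⟩ := exists_su_conj hτ hne hτ2 hAu (unitary_of_su hτ B) hT h
      refine ⟨x, ?_⟩
      rwa [show x * g = B * x from Subtype.ext (Subtype.ext hx), mul_inv_cancel_right]
    suffices h : ∃ x : Cfsg.SU 3 F q, x * g * x⁻¹ ∈ K from h.imp fun x hx => Or.inr hx
    by_cases hev : ∃ (v : Fin 3 → F) (c : F), A *ᵥ v = c • v ∧ v ≠ 0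
    · obtain ⟨v, c, hv, hv0⟩ := hev
      obtain ⟨h3, h2⟩ := regular_of_eigvec hF hτ g.1.2 hiso hv0 hv hK
      obtain ⟨T, hT, hTA⟩ := regular_similar h3 h2 hγ3 hγ2
      rw [add_sub_cancel, add_sub_cancel] at hTA
      exact hfin γ hγK T hT hTA
    · push Not at hev
      set p := A.charpoly with hp
      have hpm : p.Monic := A.charpoly_monic
      have hpd : p.natDegree = 3 := by rw [hp, Matrix.charpoly_natDegree_eq_dim, Fintype.card_fin]
      have hpr : ∀ c, p.eval c ≠ 0 := fun c hc => by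
        obtain ⟨v, hv0, hv⟩ := exists_eigvec hc
        exact hv0 (hev v c hv)
      have hpi := irreducible_of_no_root hpm (by omega) (by omega) hpr
      have hp0 : p.coeff 0 ≠ 0 := coeff_zero_ne_zero hpi hpm (by omega)
      have hpA : aeval A p = 0 := Matrix.aeval_self_charpoly A
      have hpfix : conjRev τ p = p := by
        have hAt : Aᵀ * A.map τ = 1 := by simpa [conjT] using congrArg Matrix.transpose hAu
        have hk : aeval A (conjRev τ p) = 0 := by
          rw [conjRev, map_mul, aeval_conj_reverse hAt hpA, mul_zero]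
        have hmin := (hpi.dvd_iff.1 (minpoly.dvd F A hpA)).resolve_left (minpoly.not_isUnit F A)
        exact (eq_of_monic_of_associated hpm (monic_conjRev hp0)
          (hpi.associated_of_dvd (irreducible_conjRev hτ2 hpm hp0 hpi) (hmin.dvd.trans (minpoly.dvd F A hk)))).symm
      obtain ⟨P, hP⟩ := exists_dvd_comp hpi hpm hfi hfm (by rw [hpd, hfd])
      set B := aeval θ P with hB
      have hBp : aeval B p = 0 := by
        rw [hB, ← aeval_comp]; exact aeval_eq_zero_of_dvd_aeval_eq_zero hP hθ0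
      have hBord : B ^ (q ^ 3 + 1) = 1 := by
        have h1 := fixed_cubic_dvd hF hτ hτ2 hpi hpm hp0 hpd hpfix
        simpa [sub_eq_zero] using aeval_eq_zero_of_dvd_aeval_eq_zero h1 hBp
      obtain ⟨ℓ, hℓ⟩ : ∃ ℓ, q = 3 ^ ℓ := ⟨a, hqa⟩
      have hBu : conjT τ B * B = 1 := by
        have h1 : conjT τ B = B ^ q ^ 3 := by
          rw [hB, ← map_pow, hℓ, ← pow_mul, ← map_iterateFrobenius_expand 3 P]
          rw [show conjT τ (aeval θ P) = aeval (conjT τ θ) (P.map τ) from (aeval_map_transpose θ P).symm]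
          rw [hθstar, map_expand, expand_eq_comp_X_pow, aeval_comp, map_pow, aeval_X,
            show iterateFrobenius F 3 (ℓ * 3) = τ from RingHom.ext fun x => by
              rw [iterateFrobenius_def, pow_mul 3, ← hℓ, pow_qcube hF, hτ],
            pow_mul 3, ← hℓ]
        rw [h1, ← pow_succ, hBord]
      obtain ⟨T, hT⟩ := exists_sl_conj hpi hpm hp0 (by norm_num) hpA hBp
      have hBd : B.det = 1 := by
        have := congrArg Matrix.det hT
        rw [Matrix.det_mul, Matrix.det_mul, T.2, one_mul, mul_one, show A.det = 1 from g.1.2] at this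
        exact this.symm
      obtain ⟨b, hb⟩ := su_of_unitary hτ hτ2 hBd hBu
      refine hfin b ⟨0, ?_⟩ T.1 (by rw [T.2]; exact one_ne_zero) (by rw [hb]; exact hT)
      rw [hb, pow_zero, pow_one, hB]
      have h := ((Commute.all (X : F[X]) P).map (aeval θ)).eq
      rw [aeval_X] at h
      exact h.symm

end CfsgLib.NormalCover
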