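import Mathlib
import Cfsg.Prelude.Def_Classical
import Cfsg.Agent.Lib.QuadType.SpForms
import Cfsg.Agent.Lib.Sp.Simple
import Cfsg.Agent.Lib.NormalCover.Basic

/-!
`PSp_{2m}(q)`, `q` even, is covered by the conjugates of the two orthogonal groups (Dye): every symplectic
element fixes a quadratic form polarising to the alternating form.
-/

set_option autoImplicit false

namespace CfsgLib.NormalCover

open Matrix QuadraticMap CfsgLib.QuadType CfsgLib.Sp

variable {F : Type*} [Field F] [Fintype F] [CharP F 2] {d : ℕ}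

omit [Fintype F] [CharP F 2] in
theorem nondeg_of_polarises {Q : QuadraticForm F (SV d → F)} (h : Polarises ⇑Q) :
    Q.polarBilin.Nondegenerate := by
  have e : Q.polarBilin = sympBilin d F := LinearMap.ext fun u => LinearMap.ext fun v => by
    rw [polarBilin_apply_apply, h, sympBilin_apply]
  rw [e]
  exact sympBilin_nondegenerate

/-- Every symplectic matrix fixes a form polarising to the alternating form. -/
theorem exists_fixed_form {Q₀ : QuadraticForm F (SV d → F)} (hQ₀ : Polarises ⇑Q₀)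
    (M : Matrix (SV d) (SV d) F)
    (hMf : ∀ u v, Cfsg.sympForm d F (M *ᵥ u) (M *ᵥ v) = Cfsg.sympForm d F u v) :
    ∃ Q : QuadraticForm F (SV d → F), Polarises ⇑Q ∧ ∀ v, Q (M *ᵥ v) = Q v := by
  classical
  let B := Q₀.polarBilin
  have hQ₀n := nondeg_of_polarises hQ₀
  have hB : ∀ u v, B u v = Cfsg.sympForm d F u v := hQ₀
  have hBM : ∀ u v, B (M *ᵥ u) (M *ᵥ v) = B u v := fun u v => by rw [hB, hB, hMf]
  set N : (SV d → F) →ₗ[F] (SV d → F) := M.mulVecLin - LinearMap.id with hN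
  have hMN : ∀ v, M *ᵥ v = v + N v := fun v => by simp [hN]
  have hFrob : ∀ x : F, ∃ y, y * y = x := fun x =>
    (FiniteField.isSquare_of_char_two (ringChar.eq F 2 ▸ rfl : ringChar F = 2) x).imp fun _ h => h.symm
  choose sq hsq using hFrob
  have hsq_unique : ∀ a b : F, a * a = b * b → a = b := fun a b e => by
    have : (a + b) * (a + b) = 0 := by
      linear_combination e + (b * b + a * b) * (CharTwo.two_eq_zero : (2 : F) = 0)
    exact CharTwo.add_eq_zero.1 (mul_self_eq_zero.1 this)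
  have hDadd : ∀ u v, Q₀ (M *ᵥ (u + v)) + Q₀ (u + v) =
      (Q₀ (M *ᵥ u) + Q₀ u) + (Q₀ (M *ᵥ v) + Q₀ v) := fun u v => by
    have e1 : Q₀ (M *ᵥ (u + v)) = Q₀ (M *ᵥ u) + Q₀ (M *ᵥ v) + B (M *ᵥ u) (M *ᵥ v) := by
      rw [mulVec_add]; exact QuadraticMap.map_add Q₀ _ _
    have e2 : Q₀ (u + v) = Q₀ u + Q₀ v + B u v := QuadraticMap.map_add Q₀ _ _
    rw [e1, e2, hBM]
    linear_combination B u v * (CharTwo.two_eq_zero : (2 : F) = 0)
  let φ : (SV d → F) →ₗ[F] F :=
    { toFun := fun v => sq (Q₀ (M *ᵥ v) + Q₀ v)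
      map_add' := fun u v => hsq_unique _ _ (by
        rw [hsq, hDadd]
        linear_combination -(hsq (Q₀ (M *ᵥ u) + Q₀ u)) - hsq (Q₀ (M *ᵥ v) + Q₀ v) -
          sq (Q₀ (M *ᵥ u) + Q₀ u) * sq (Q₀ (M *ᵥ v) + Q₀ v) * (CharTwo.two_eq_zero : (2 : F) = 0))
      map_smul' := fun c v => hsq_unique _ _ (by
        rw [hsq, mulVec_smul, QuadraticMap.map_smul, QuadraticMap.map_smul, RingHom.id_apply,
          smul_eq_mul, smul_eq_mul, smul_eq_mul]
        linear_combination -(c * c) * hsq (Q₀ (M *ᵥ v) + Q₀ v)) }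
  obtain ⟨ψ, hψ⟩ : ∃ ψ : Module.Dual F (SV d → F), ψ ∘ₗ N = φ := by
    have : φ ∈ LinearMap.range N.dualMap := by
      rw [LinearMap.range_dualMap_eq_dualAnnihilator_ker, Submodule.mem_dualAnnihilator]
      intro v hv
      rw [LinearMap.mem_ker] at hv
      refine hsq_unique _ _ ?_
      show sq _ * sq _ = _
      rw [hsq, hMN, hv, add_zero, CharTwo.add_self_eq_zero, mul_zero]
    exact this
  obtain ⟨w₀, hw₀⟩ : ∃ w, ∀ v, B w v = ψ v :=
    ⟨(LinearMap.BilinForm.toDual B hQ₀n).symm ψ,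
      fun v => LinearMap.BilinForm.apply_toDual_symm_apply (hB := hQ₀n) ψ v⟩
  refine ⟨twist Q₀ w₀ 1, fun u v => by rw [polar_twist, hQ₀], fun v => ?_⟩
  have e : polar Q₀ w₀ (M *ᵥ v) = polar Q₀ w₀ v + φ v := by
    show B w₀ (M *ᵥ v) = B w₀ v + φ v
    rw [hMN, map_add, hw₀ (N v), ← hψ, LinearMap.comp_apply]
  rw [twist_apply, twist_apply, e]
  have h : φ v * φ v = Q₀ (M *ᵥ v) + Q₀ v := hsq (Q₀ (M *ᵥ v) + Q₀ v)
  linear_combination h + (polar Q₀ w₀ v * φ v + Q₀ (M *ᵥ v)) * (CharTwo.two_eq_zero : (2 : F) = 0)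

/-- The isometry group of a form inside the symplectic group. -/
def formStab (Q : (SV d → F) → F) : Subgroup (symplecticGroup (Fin d) F) where
  carrier := {A | ∀ v, Q (A.1 *ᵥ v) = Q v}
  one_mem' v := by rw [Submonoid.coe_one, one_mulVec]
  mul_mem' {A B} hA hB v := by rw [Submonoid.coe_mul, ← mulVec_mulVec, hA, hB]
  inv_mem' {A} hA v := by
    have h := hA ((A⁻¹).1 *ᵥ v)
    rw [mulVec_mulVec, ← Submonoid.coe_mul, mul_inv_cancel, Submonoid.coe_one, one_mulVec] at h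
    exact h.symm

omit [Fintype F] in
theorem center_le_formStab (Q : (SV d → F) → F) :
    Subgroup.center (symplecticGroup (Fin d) F) ≤ formStab Q := fun A hA v => by
  have h1 : (A : Matrix (SV d) (SV d) F) = 1 := by
    rcases CfsgLib.Sp.mem_center_iff.1 hA with h | h
    · exact h
    · rw [h]; ext i j; simp [CharTwo.neg_eq]
  rw [h1, one_mulVec]

omit [Fintype F] in
theorem formStab_ne_top (hd : 2 ≤ d) (Q : QuadraticForm F (SV d → F)) (hQ : Polarises ⇑Q) :
    formStab (⇑Q) ≠ ⊤ := by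
  intro htop
  obtain ⟨v, hv0, hv⟩ : ∃ v : SV d → F, v ≠ 0 ∧ Q v ≠ 1 := by
    by_contra h
    push Not at h
    let i : Fin d := ⟨0, by omega⟩
    let j : Fin d := ⟨1, by omega⟩
    have hij : i ≠ j := fun e => by simpa [i, j] using congrArg Fin.val e
    have h1 := h (Pi.single (Sum.inl i) 1) (by simp [Pi.single_eq_zero_iff])
    have h2 := h (Pi.single (Sum.inl j) 1) (by simp [Pi.single_eq_zero_iff])
    have h3 := h (Pi.single (Sum.inl i) 1 + Pi.single (Sum.inl j) 1) (fun e => by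
      simpa [hij] using congrFun e (Sum.inl i))
    have hpol := hQ (Pi.single (Sum.inl i) 1) (Pi.single (Sum.inl j) 1)
    rw [QuadraticMap.polar, h1, h2, h3, sympForm_eq_sum] at hpol
    simp at hpol
  obtain ⟨x, hx⟩ := exists_pair_one hv0
  have hxv : Cfsg.sympForm d F x v = 1 := by rw [sympForm_flip, hx, CharTwo.neg_eq]
  have hmem : tmat v (1 : F) ∈ formStab (⇑Q) := htop.symm ▸ Subgroup.mem_top _
  have h := hmem x
  simp only [tmat, sympTransvection_mulVec, hxv, one_mul, one_smul] at h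
  rw [QuadraticMap.map_add Q, hQ, hxv] at h
  refine hv (CharTwo.add_eq_zero.1 ?_)
  linear_combination h

theorem exists_both_forms (hd : 1 ≤ d) : ∃ Qp Qm : QuadraticForm F (SV d → F),
    Polarises ⇑Qp ∧ IsPlus (⇑Qp) d ∧ Polarises ⇑Qm ∧ ¬ IsPlus (⇑Qm) d := by
  let Q₀ : QuadraticForm F (SV d → F) :=
    ∑ i, linMulLin (LinearMap.proj (Sum.inl i) : (SV d → F) →ₗ[F] F) (LinearMap.proj (Sum.inr i))
  have hQ₀a : ∀ v : SV d → F, Q₀ v = ∑ i, v (Sum.inl i) * v (Sum.inr i) := fun v => by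
    simp [Q₀]
  have hQ₀ : Polarises ⇑Q₀ := fun u v => by
    rw [QuadraticMap.polar, hQ₀a, hQ₀a, hQ₀a, sympForm_eq_sum, ← Finset.sum_sub_distrib,
      ← Finset.sum_sub_distrib]
    refine Finset.sum_congr rfl fun i _ => ?_
    simp only [Pi.add_apply, CharTwo.sub_eq_add]
    linear_combination (u (Sum.inl i) * u (Sum.inr i) + v (Sum.inl i) * v (Sum.inr i)) *
      (CharTwo.two_eq_zero : (2 : F) = 0)
  obtain ⟨⟨c, hc⟩, ⟨c', hc'⟩⟩ := exists_twists Q₀ (nondeg_of_polarises hQ₀) hd card_SV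
    (w := Pi.single (Sum.inl ⟨0, hd⟩) 1 + Pi.single (Sum.inr ⟨0, hd⟩) 1) (k := d) (by
      rw [hQ₀a, Finset.sum_eq_single (⟨0, hd⟩ : Fin d)]
      · simp
      · intro b _ hb; simp [hb]
      · simp)
  exact ⟨_, _, fun u v => by rw [polar_twist, hQ₀], hc, fun u v => by rw [polar_twist, hQ₀], hc'⟩

/-- `PSp_{2m}(q)`, `q` even. -/
theorem psp_even (hd : 2 ≤ d) : TwoCovered (Cfsg.PSp d F) := by
  classical
  obtain ⟨Qp, Qm, hp, hp', hm, hm'⟩ := exists_both_forms (F := F) (d := d) (by omega)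
  refine twoCovered_quotient (formStab ⇑Qp) (formStab ⇑Qm) (center_le_formStab _) (center_le_formStab _)
    (formStab_ne_top hd Qp hp) (formStab_ne_top hd Qm hm) fun A => ?_
  obtain ⟨Q, hQ, hfix⟩ := exists_fixed_form hp A.1 (sympForm_mulVec A)
  have hfin : ∀ Q' : QuadraticForm F (SV d → F), Polarises ⇑Q' → (IsPlus (⇑Q) d ↔ IsPlus (⇑Q') d) →
      ∃ x : symplecticGroup (Fin d) F, x * A * x⁻¹ ∈ formStab ⇑Q' := by
    intro Q' hQ' htype
    obtain ⟨T, hT⟩ := exists_isometry Q Q' (nondeg_of_polarises hQ) (nondeg_of_polarises hQ') card_SV htype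
    obtain ⟨X, hX⟩ := (spEquiv d F).surjective ⟨T, mem_spGL_of_isometry hQ hQ' hT⟩
    have hXT : X.1 = T.1 := by rw [← spEquiv_coe, hX]
    refine ⟨X⁻¹, fun v => ?_⟩
    have hkey : ∀ v, Q' ((X⁻¹).1 *ᵥ v) = Q v := fun v => by
      rw [← hT, ← hXT, mulVec_mulVec, ← Submonoid.coe_mul, mul_inv_cancel, Submonoid.coe_one, one_mulVec]
    rw [inv_inv, Submonoid.coe_mul, Submonoid.coe_mul, ← mulVec_mulVec, ← mulVec_mulVec, hkey, hfix, hXT, hT]
  by_cases hplus : IsPlus (⇑Q) d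
  · exact (hfin Qp hp (iff_of_true hplus hp')).imp fun x hx => Or.inl hx
  · exact (hfin Qm hm (iff_of_false hplus hm')).imp fun x hx => Or.inr hx

end CfsgLib.NormalCover
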